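import Cfsg.Prelude.Def_Local
import Cfsg.Agent.H527.RC.Defs

/-!
# S4191: the statements of the pieces (helper527)

Plan: `tools/plans/S4191.md`.
-/

set_option autoImplicit false

namespace Cfsg.Agent.H527.RC

open scoped Pointwise commutatorElement

universe u

/-- the hypothesis of S4191 -/
def Cp (p e : ℕ) (G : Type*) [Group G] : Prop :=
  ∀ x : G, ¬ p ∣ orderOf x → (Subgroup.centralizer ({x} : Set G)).index.factorization p ≤ e

/-- (A1) a `p`-regular element with centralizer of order prime to `p` -/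
def CC (p : ℕ) (S : Type*) [Group S] : Prop :=
  ∃ x : S, ¬ p ∣ orderOf x ∧ ¬ p ∣ Nat.card (Subgroup.centralizer ({x} : Set S))

/-- (A1) for all simple groups -/
def CCAll : Prop := ∀ (p : ℕ), p.Prime → ∀ (S : Type u) [Group S] [Finite S] [IsSimpleGroup S],
  ¬ IsMulCommutative S → CC p S

/-- (A2) `|Out S|_p < |S|_p` for all simple groups of order divisible by `p` -/
def OutAll : Prop := ∀ (p : ℕ), p.Prime → ∀ (S : Type u) [Group S] [Finite S] [IsSimpleGroup S],
  ¬ IsMulCommutative S → p ∣ Nat.card S →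
  (Nat.card (MulAut S)).factorization p < 2 * (Nat.card S).factorization p

/-- (A) groups without nontrivial `p`-solvable normal subgroups -/
def TopStmt : Prop := ∀ (p : ℕ) [Fact p.Prime] (G : Type u) [Group G] [Finite G] (e : ℕ), Cp p e G →
  (∀ N : Subgroup G, N.Normal → Cfsg.IsPSolvable p N → N = ⊥) → (Nat.card G).factorization p ≤ 2 * e

/-- (B1) modules in characteristic `p` for groups with a normal `p`-complement and no normal `p`-subgroup.
To prove: `PLin 2 1 1`, `PLin 3 3 4`, `PLin 5 5 16`, `PLin p 7 36` (`p ≥ 7`). -/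
def PLin (p a b : ℕ) : Prop :=
  ∀ (X V : Type u) [Group X] [Finite X] [AddCommGroup V] [Finite V] [DistribMulAction X V] (R : Subgroup X),
    LP p R → (∀ g : X, PEl p g → (∀ x ∈ R, g * x = x * g) → g = 1) → (∀ v : V, p • v = 0) →
    (∀ g : X, (∀ v : V, g • v = v) → g = 1) →
    b * (Nat.card X).factorization p ≤ a * (Nat.card V).factorization p

/-- (B0-ns) the nonsolvable part of a group with a normal `p`-complement -/
def NsOrb (p : ℕ) : Prop := ∀ (M : Type u) [Group M] [Finite M] (K : Subgroup M), LP p K →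
  (∀ A : Subgroup M, A.Normal → A ≤ K → Group.IsSolvable A → A = ⊥) →
  ∃ x ∈ K, ∀ y : M, PEl p y → x * y = y * x → ∀ k ∈ K, y * k = k * y

/-- (SOB) orders of solvable groups of matrices without normal `q`-subgroups in characteristic `q` -/
def SOB : Prop := ∀ (q : ℕ), q.Prime → ∀ (G X : Type u) [Group G] [Finite G] [Group.IsSolvable G] [AddCommGroup X]
  [Finite X] [DistribMulAction G X], (∀ x : X, q • x = 0) → (∀ g : G, (∀ x : X, g • x = x) → g = 1) →
  (∀ N : Subgroup G, N.Normal → IsPGroup q N → N = ⊥) → Nat.card G ≤ Nat.card X ^ 3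

end Cfsg.Agent.H527.RC
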