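import Cfsg.Agent.H527.RC.Stmts
import Cfsg.Agent.H912.KnownSplit
import Cfsg.Agent.H333.RC.CcAlt
import Cfsg.Agent.H466.RC.CCU
import Cfsg.Agent.H966.RC.CCS
import Cfsg.Agent.H530.RC.DZ

/-!
# S4191: `CCAll` from its rows (helper527)
-/

set_option autoImplicit false

namespace Cfsg.Agent.H527.RC

universe u v

theorem CC.congr {p : ℕ} {S : Type u} {T : Type v} [Group S] [Group T] (e : S ≃* T) (h : CC p S) : CC p T := by
  obtain ⟨x, hx, hc⟩ := h
  refine ⟨e x, ?_, ?_⟩
  · rwa [MulEquiv.orderOf_eq]
  · have h1 : (Subgroup.centralizer ({e x} : Set T)) = (Subgroup.centralizer ({x} : Set S)).map e.toMonoidHom := by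
      ext y
      constructor
      · intro hy
        refine ⟨e.symm y, ?_, e.apply_symm_apply y⟩
        rw [SetLike.mem_coe, Subgroup.mem_centralizer_singleton_iff]
        apply e.injective
        rw [map_mul, map_mul, e.apply_symm_apply]
        exact Subgroup.mem_centralizer_singleton_iff.1 hy
      · rintro ⟨z, hz, rfl⟩
        rw [Subgroup.mem_centralizer_singleton_iff]
        have := Subgroup.mem_centralizer_singleton_iff.1 hz
        change e z * e x = e x * e z
        rw [← map_mul, ← map_mul, this]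
    rw [h1, Subgroup.card_map_of_injective e.injective]
    exact hc

/-- **(A1)** from its rows. -/
theorem ccAll_of (hclass : ∀ (S : Type u) [Group S] [Finite S] [IsSimpleGroup S], Cfsg.IsKnownSimple' S)
    : CCAll.{u} := by
  intro p hp S _ _ _ hna
  have hc : ¬ Cfsg.IsPrimeCyclic S := by
    intro hk
    apply hna
    have h1 : Fact (Nat.card S).Prime := ⟨hk⟩
    have h2 : IsCyclic S := isCyclic_of_prime_card (p := Nat.card S) rfl
    exact IsCyclic.isMulCommutative
  rcases H912.Known.known_split (hclass S) hc with h | ⟨r, hr, h⟩ | h | h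
  · obtain ⟨n, hn, ⟨e⟩⟩ := h
    exact (H333.RC.cc_alt hn hp).congr e.symm
  · by_cases hpr : p = r
    · subst hpr
      exact H530.RC.cc_char hp h
    · exact H466.RC.cc_cross hp hr h hpr
  · exact H966.RC.cc_tits h hp
  · exact H966.RC.cc_sporadic h hp

end Cfsg.Agent.H527.RC
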