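import Cfsg.Agent.H527.RC.Defs
import Cfsg.Agent.Lib.Cores

/-!
# Fitting height: basic lemmas (helper527)
-/

set_option autoImplicit false

namespace Cfsg.Agent.H527.RC

open scoped Pointwise commutatorElement

universe u v w

theorem isNilpotent_of_injective {G : Type u} {H : Type v} [Group G] [Group H] (f : H →* G)
    (hf : Function.Injective f) (h : Group.IsNilpotent G) : Group.IsNilpotent H := by
  refine Subgroup.isNilpotent_of_ker_le_center f ?_
  rw [(MonoidHom.ker_eq_bot_iff f).2 hf]
  exact bot_le

theorem FH.zero_iff {G : Type u} [Group G] : FH 0 G ↔ Subsingleton G := Iff.rfl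

/-- **Families**: a group embedded in a finite product of groups of Fitting height at most `t`. -/
theorem FH.of_family {t : ℕ} : ∀ {G : Type u} [Group G] {ι : Type w} [Finite ι] {Hs : ι → Type v}
    [∀ i, Group (Hs i)] (f : ∀ i, G →* Hs i) (_ : ∀ g : G, (∀ i, f i g = 1) → g = 1) (_ : ∀ i, FH t (Hs i)),
    FH t G := by
  induction t with
  | zero =>
    intro G _ ι _ Hs _ f hf h
    refine ⟨fun a b => ?_⟩
    have h1 : ∀ g : G, g = 1 := fun g => hf g fun i => (h i).elim _ _
    rw [h1 a, h1 b]
  | succ t IH =>
    intro G _ ι _ Hs _ f hf h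
    choose N hN hnil hFH using h
    have hMn : (⨅ i, (N i).comap (f i)).Normal := by
      have : ∀ i, ((N i).comap (f i)).Normal := fun i => (hN i).comap (f i)
      exact Subgroup.normal_iInf_normal this
    refine ⟨⨅ i, (N i).comap (f i), hMn, ?_, ?_⟩
    · have h1 : ∀ i, ∀ x : (⨅ i, (N i).comap (f i) : Subgroup G), f i (x : G) ∈ N i := by
        intro i x
        have := (Subgroup.mem_iInf.1 x.2) i
        exact this
      let g : (⨅ i, (N i).comap (f i) : Subgroup G) →* (∀ i, N i) := MonoidHom.pi fun i =>
        ((f i).comp (Subgroup.subtype _)).codRestrict (N i) (h1 i)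
      refine isNilpotent_of_injective g ?_ inferInstance
      rw [injective_iff_map_eq_one]
      intro x hx
      apply Subtype.ext
      apply hf
      intro i
      have := congrFun hx i
      exact congrArg Subtype.val this
    · refine IH (ι := ι) (Hs := fun i => Hs i ⧸ N i) (fun i => QuotientGroup.map _ (N i) (f i) (iInf_le _ i)) ?_ hFH
      intro x
      induction x using QuotientGroup.induction_on with
      | H x =>
        intro hx
        rw [QuotientGroup.eq_one_iff, Subgroup.mem_iInf]
        intro i
        have := hx i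
        rw [QuotientGroup.map_mk, QuotientGroup.eq_one_iff] at this
        exact this

/-- subgroups -/
theorem FH.of_injective {t : ℕ} {G : Type u} {H : Type v} [Group G] [Group H] (f : H →* G)
    (hf : Function.Injective f) (h : FH t G) : FH t H :=
  FH.of_family (ι := Unit) (Hs := fun _ => G) (fun _ => f)
    (fun g hg => hf (by rw [map_one]; exact hg ())) (fun _ => h)

theorem FH.congr {t : ℕ} {G : Type u} {H : Type v} [Group G] [Group H] (e : G ≃* H) (h : FH t G) : FH t H :=
  FH.of_injective e.symm.toMonoidHom e.symm.injective h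

theorem FH.subgroup {t : ℕ} {G : Type u} [Group G] (h : FH t G) (H : Subgroup G) : FH t H :=
  FH.of_injective H.subtype H.subtype_injective h

theorem FH.of_le {t : ℕ} {G : Type u} [Group G] {H K : Subgroup G} (hHK : H ≤ K) (h : FH t K) : FH t H :=
  FH.of_injective (Subgroup.inclusion hHK) (Subgroup.inclusion_injective hHK) h

theorem FH.prod {t : ℕ} : ∀ {G : Type u} {H : Type v} [Group G] [Group H] (_ : FH t G) (_ : FH t H),
    FH t (G × H) := by
  induction t with
  | zero =>
    intro G H _ _ h1 h2
    have h3 : Subsingleton G := h1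
    have h4 : Subsingleton H := h2
    exact (inferInstance : Subsingleton (G × H))
  | succ t IH =>
    intro G H _ _ h1 h2
    obtain ⟨M, hM, hMn, hMq⟩ := h1
    obtain ⟨N, hN, hNn, hNq⟩ := h2
    refine ⟨M.prod N, inferInstance, ?_, ?_⟩
    · exact isNilpotent_of_injective (M.prodEquiv N).toMonoidHom (M.prodEquiv N).injective inferInstance
    · refine FH.of_injective (G := (G ⧸ M) × (H ⧸ N)) (QuotientGroup.lift (M.prod N)
        (((QuotientGroup.mk' M).comp (MonoidHom.fst G H)).prod ((QuotientGroup.mk' N).comp (MonoidHom.snd G H)))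
        ?_) ?_ (IH hMq hNq)
      · rintro ⟨x, y⟩ ⟨hx, hy⟩
        exact Prod.ext ((QuotientGroup.eq_one_iff x).2 hx) ((QuotientGroup.eq_one_iff y).2 hy)
      · rw [injective_iff_map_eq_one]
        intro x
        induction x using QuotientGroup.induction_on with
        | H x =>
          intro hx
          rw [QuotientGroup.lift_mk] at hx
          rw [QuotientGroup.eq_one_iff]
          exact ⟨(QuotientGroup.eq_one_iff x.1).1 (congrArg Prod.fst hx),
            (QuotientGroup.eq_one_iff x.2).1 (congrArg Prod.snd hx)⟩

/-- two maps -/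
theorem FH.of_two {t : ℕ} {G : Type u} {H K : Type v} [Group G] [Group H] [Group K] (f : G →* H) (g : G →* K)
    (hfg : ∀ x : G, f x = 1 → g x = 1 → x = 1) (h1 : FH t H) (h2 : FH t K) : FH t G :=
  FH.of_injective (f.prod g) (by
    rw [injective_iff_map_eq_one]
    intro x hx
    exact hfg x (congrArg Prod.fst hx) (congrArg Prod.snd hx)) (h1.prod h2)

/-- quotients -/
theorem FH.of_surjective {t : ℕ} : ∀ {G : Type u} {H : Type v} [Group G] [Group H] (f : G →* H)
    (_ : Function.Surjective f) (_ : FH t G), FH t H := by
  induction t with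
  | zero =>
    intro G H _ _ f hf h
    have : Subsingleton G := h
    exact hf.subsingleton
  | succ t IH =>
    intro G H _ _ f hf h
    obtain ⟨N, hN, hnil, hq⟩ := h
    have hNm : (N.map f).Normal := hN.map f hf
    refine ⟨N.map f, hNm, ?_, ?_⟩
    · exact Group.nilpotent_of_surjective (f.subgroupMap N) (f.subgroupMap_surjective N)
    · refine IH (QuotientGroup.map N (N.map f) f (Subgroup.le_comap_map f N)) ?_ hq
      intro y
      induction y using QuotientGroup.induction_on with
      | H y =>
        obtain ⟨x, rfl⟩ := hf y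
        exact ⟨(x : G ⧸ N), rfl⟩

theorem FH.quotient {t : ℕ} {G : Type u} [Group G] (h : FH t G) (N : Subgroup G) [N.Normal] : FH t (G ⧸ N) :=
  FH.of_surjective (QuotientGroup.mk' N) (QuotientGroup.mk'_surjective N) h

theorem FH.map {t : ℕ} {G : Type u} {H : Type v} [Group G] [Group H] (f : G →* H) {K : Subgroup G} (h : FH t K) :
    FH t (K.map f) :=
  FH.of_surjective (f.subgroupMap K) (f.subgroupMap_surjective K) h

theorem FH.of_map {t : ℕ} {G : Type u} {H : Type v} [Group G] [Group H] (f : G →* H) (hf : Function.Injective f)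
    {K : Subgroup G} (h : FH t (K.map f)) : FH t K :=
  FH.of_injective (f.subgroupMap K) (fun a b hab => by
    apply Subtype.ext
    apply hf
    exact congrArg Subtype.val hab) h

theorem FH.one_iff {G : Type u} [Group G] : FH 1 G ↔ Group.IsNilpotent G := by
  constructor
  · rintro ⟨N, hN, hnil, h⟩
    have h1 : N = ⊤ := by
      rw [eq_top_iff]
      intro x _
      have h2 : Subsingleton (G ⧸ N) := h
      exact (QuotientGroup.eq_one_iff x).1 (h2.elim _ _)
    rw [h1] at hnil
    exact Group.isNilpotent_top.1 hnil
  · intro h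
    refine ⟨⊤, inferInstance, Group.isNilpotent_top.2 h, ?_⟩
    exact ⟨fun a b => by
      induction a using QuotientGroup.induction_on
      induction b using QuotientGroup.induction_on
      rw [QuotientGroup.eq]
      exact Subgroup.mem_top _⟩

theorem FH.of_subsingleton {t : ℕ} : ∀ (G : Type u) [Group G] [Subsingleton G], FH t G := by
  induction t with
  | zero => intro G _ h; exact h
  | succ t IH =>
    intro G _ _
    exact ⟨⊥, inferInstance, inferInstance, IH _⟩

theorem FH.succ {t : ℕ} {G : Type u} [Group G] (h : FH t G) : FH (t + 1) G :=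
  ⟨⊥, inferInstance, inferInstance, h.quotient ⊥⟩

theorem FH.mono {s t : ℕ} (hst : s ≤ t) {G : Type u} [Group G] (h : FH s G) : FH t G := by
  induction hst with
  | refl => exact h
  | step _ IH => exact IH.succ

theorem FH.of_isNilpotent {t : ℕ} (ht : 1 ≤ t) {G : Type u} [Group G] (h : Group.IsNilpotent G) : FH t G :=
  (FH.one_iff.2 h).mono ht

theorem FH.isSolvable {t : ℕ} : ∀ {G : Type u} [Group G] (_ : FH t G), Group.IsSolvable G := by
  induction t with
  | zero =>
    intro G _ h
    have : Subsingleton G := h
    infer_instance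
  | succ t IH =>
    intro G _ h
    obtain ⟨N, hN, hnil, hq⟩ := h
    have h1 : Group.IsSolvable (G ⧸ N) := IH hq
    have h2 : Group.IsSolvable N := inferInstance
    exact Group.isSolvable_of_ker_le_range N.subtype (QuotientGroup.mk' N) (by simp)

section Finite

variable {G : Type u} [Group G]

/-- The Fitting height via the Fitting subgroup. -/
theorem FH.fitting {t : ℕ} (h : FH (t + 1) G) (hn : (Cfsg.fittingSubgroup G).Normal :=
    Lib.Cores.fittingSubgroup_normal) : FH t (G ⧸ Cfsg.fittingSubgroup G) := by
  obtain ⟨N, hN, hnil, hq⟩ := h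
  refine FH.of_surjective (QuotientGroup.map N (Cfsg.fittingSubgroup G) (MonoidHom.id G)
    (Lib.Cores.le_fittingSubgroup hN hnil)) ?_ hq
  intro y
  induction y using QuotientGroup.induction_on with
  | H y => exact ⟨(y : G ⧸ N), rfl⟩

end Finite

/-- **Extensions**. -/
theorem FH.extension {s t : ℕ} : ∀ {G : Type u} [Group G] [Finite G] (N : Subgroup G) [N.Normal]
    (_ : FH s N) (_ : FH t (G ⧸ N)), FH (s + t) G := by
  induction s with
  | zero =>
    intro G _ _ N _ h1 h2
    have h3 : N = ⊥ := by
      rw [eq_bot_iff]
      intro x hx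
      have : Subsingleton N := h1
      exact congrArg Subtype.val (this.elim ⟨x, hx⟩ 1)
    subst h3
    rw [zero_add]
    exact h2.congr QuotientGroup.quotientBot
  | succ s IH =>
    intro G _ _ N hN h1 h2
    have hFn : (Cfsg.fittingSubgroup N).Normal := Lib.Cores.fittingSubgroup_normal
    have hFc : (Cfsg.fittingSubgroup N).Characteristic := Lib.Cores.fittingSubgroup_characteristic
    set F := (Cfsg.fittingSubgroup N).map N.subtype with hF
    have hFG : F.Normal := by
      rw [hF]
      infer_instance
    have hnil : Group.IsNilpotent F := by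
      have := Lib.Cores.fittingSubgroup_isNilpotent (G := N)
      exact Group.nilpotent_of_surjective (N.subtype.subgroupMap (Cfsg.fittingSubgroup N))
        (N.subtype.subgroupMap_surjective _)
    have h3 : FH s (N.map (QuotientGroup.mk' F)) := by
      have h4 : FH s (N ⧸ Cfsg.fittingSubgroup N) := h1.fitting
      let g : N →* N.map (QuotientGroup.mk' F) := (QuotientGroup.mk' F).subgroupMap N
      have hg : Function.Surjective g := (QuotientGroup.mk' F).subgroupMap_surjective N
      have hker : Cfsg.fittingSubgroup N ≤ g.ker := by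
        intro x hx
        rw [MonoidHom.mem_ker]
        apply Subtype.ext
        change (QuotientGroup.mk' F) (x : G) = 1
        rw [QuotientGroup.mk'_apply, QuotientGroup.eq_one_iff]
        exact ⟨x, hx, rfl⟩
      refine FH.of_surjective (QuotientGroup.lift (Cfsg.fittingSubgroup N) g hker) ?_ h4
      intro y
      obtain ⟨x, rfl⟩ := hg y
      exact ⟨(x : N ⧸ Cfsg.fittingSubgroup N), rfl⟩
    have hNm : (N.map (QuotientGroup.mk' F)).Normal := hN.map _ (QuotientGroup.mk'_surjective F)
    have hFN : F ≤ N := by
      rw [hF]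
      exact Subgroup.map_subtype_le _
    have h5 : FH t ((G ⧸ F) ⧸ (N.map (QuotientGroup.mk' F))) :=
      h2.congr (QuotientGroup.quotientQuotientEquivQuotient F N hFN).symm
    have h6 := IH (N.map (QuotientGroup.mk' F)) h3 h5
    rw [Nat.add_right_comm]
    exact ⟨F, hFG, hnil, h6⟩

/-- Extensions, in terms of a homomorphism. -/
theorem FH.of_hom {s t : ℕ} {G : Type u} {H : Type v} [Group G] [Finite G] [Group H] (f : G →* H)
    (h1 : FH s f.ker) (h2 : FH t f.range) : FH (s + t) G :=
  FH.extension f.ker h1 (h2.congr (QuotientGroup.quotientKerEquivRange f).symm)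

end Cfsg.Agent.H527.RC
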