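import Cfsg.Agent.H991.RC.ColP
import Cfsg.Agent.H502.RC.Col
import Cfsg.Agent.H889.RC.ColB3
import Cfsg.Agent.H659.RC.ColB2
import Cfsg.Agent.H757.RC.Core
import Cfsg.Agent.H478.RC.LinMain
import Cfsg.Agent.H89.RC.Lev
import Cfsg.Agent.H62.RC.RatTwo
import Cfsg.Agent.H242.RC.RatTwo
import Cfsg.Agent.H855.RC.PrimTwo
import Cfsg.Agent.H675.RC.PrThree
import Cfsg.Agent.H699.RC.PR7Fin

/-!
# S4191: `Lev` from the primitive linear groups (helper527)
-/

set_option autoImplicit false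

namespace Cfsg.Agent.H527.RC

universe u

theorem lev_two : Lev.{u} 2 2 15 :=
  H89.RC.lev_two (H478.RC.lin_two (H757.RC.core_two H855.RC.corePrim_two H502.RC.col_two H659.RC.colB_two)
    H62.RC.rat_two) H62.RC.rat_two

theorem lev_three : Lev.{u} 3 2 17 :=
  H89.RC.lev_three (H478.RC.lin_three (H757.RC.core_three H675.RC.corePrim_three H502.RC.col_three
    H889.RC.colB_three)) H242.RC.rat_three

theorem lev_five (h : CorePrim.{u} 5 1 0 2) : Lev.{u} 5 3 7 :=
  H89.RC.lev_five (H478.RC.lin_five (H757.RC.core_five Nat.prime_five h (H991.RC.col_ge Nat.prime_five le_rfl))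
    H242.RC.rat_five) H242.RC.rat_five

theorem lev_seven {p : ℕ} (hp : p.Prime) (h7 : 7 ≤ p) : Lev.{u} p 30 77 :=
  H89.RC.lev_seven hp (H478.RC.lin_ge hp h7 (H757.RC.core_five hp (H699.RC.corePrim_ge hp h7)
    (H991.RC.col_ge hp (by omega))) (H242.RC.rat_ge h7 hp)) (H242.RC.rat_ge h7 hp)

end Cfsg.Agent.H527.RC
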