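import Cfsg.Agent.H527.RC.Stmts
import Cfsg.Agent.H531.ClassIndex
import Cfsg.Agent.Lib.PSolvable

/-!
# S4191: class sizes and groups with a normal `p`-complement (helper527)
-/

set_option autoImplicit false

namespace Cfsg.Agent.H527.RC

open scoped Pointwise commutatorElement

universe u v

section Cp

variable {p e : ℕ}

theorem fac_le {a b : ℕ} (hb : b ≠ 0) (h : a ∣ b) (p : ℕ) : a.factorization p ≤ b.factorization p := by
  rcases eq_or_ne a 0 with rfl | ha
  · exact absurd (zero_dvd_iff.1 h) hb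
  · exact (Nat.factorization_le_iff_dvd ha hb).2 h p

theorem Cp.normal {G : Type u} [Group G] [Finite G] (h : Cp p e G) (N : Subgroup G) [N.Normal] : Cp p e N := by
  intro x hx
  have h1 := H531.ClassIndex.normal_dvd N x
  refine (fac_le ?_ h1 p).trans (h x ?_)
  · exact Subgroup.index_ne_zero_of_finite
  · rwa [Subgroup.orderOf_coe]

/-- lifting `p`-regular elements -/
theorem exists_regular {G : Type u} {H : Type v} [Group G] [Finite G] [Group H] (hp : p.Prime) {f : G →* H}
    (hf : Function.Surjective f) (y : H) (hy : ¬ p ∣ orderOf y) : ∃ x : G, f x = y ∧ ¬ p ∣ orderOf x := by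
  obtain ⟨x, rfl⟩ := hf y
  set n := orderOf x with hn
  have hn0 : n ≠ 0 := (orderOf_pos x).ne'
  set a := n.factorization p with ha
  have h1 : p ^ a ∣ n := Nat.ordProj_dvd n p
  have h2 : ¬ p ∣ n / p ^ a := Nat.not_dvd_ordCompl hp hn0
  have hcop : Nat.Coprime (p ^ a) (orderOf (f x)) :=
    Nat.Coprime.pow_left a ((Nat.Prime.coprime_iff_not_dvd hp).2 hy)
  obtain ⟨k, hk1, hk2⟩ := Nat.chineseRemainder hcop 0 1
  refine ⟨x ^ k, ?_, ?_⟩
  · rw [map_pow]
    have := (pow_eq_pow_iff_modEq (x := f x)).2 hk2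
    rw [this, pow_one]
  · intro hdvd
    have h3 : p ^ a ∣ k := (Nat.modEq_zero_iff_dvd).1 hk1
    obtain ⟨m, rfl⟩ := h3
    have h4 : (x ^ (p ^ a * m)) ^ (n / p ^ a) = 1 := by
      rw [← pow_mul, mul_right_comm, Nat.mul_div_cancel' h1, pow_mul, hn, pow_orderOf_eq_one, one_pow]
    exact h2 (hdvd.trans (orderOf_dvd_of_pow_eq_one h4))

theorem Cp.surj {G : Type u} {H : Type v} [Group G] [Finite G] [Group H] (hp : p.Prime) (h : Cp p e G)
    {f : G →* H} (hf : Function.Surjective f) : Cp p e H := by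
  intro y hy
  obtain ⟨x, rfl, hx⟩ := exists_regular hp hf y hy
  refine (fac_le ?_ (H531.ClassIndex.surj_dvd hf x) p).trans (h x hx)
  exact Subgroup.index_ne_zero_of_finite

theorem Cp.quotient {G : Type u} [Group G] [Finite G] (hp : p.Prime) (h : Cp p e G) (N : Subgroup G) [N.Normal] :
    Cp p e (G ⧸ N) :=
  h.surj hp (QuotientGroup.mk'_surjective N)

end Cp

section Nu

variable {G : Type u} [Group G] [Finite G]

theorem card_ne_zero (H : Subgroup G) : Nat.card H ≠ 0 := (Nat.card_pos).ne'

theorem nu_mul (N : Subgroup G) (p : ℕ) :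
    (Nat.card G).factorization p = (Nat.card N).factorization p + (Nat.card (G ⧸ N)).factorization p := by
  have h := Subgroup.card_eq_card_quotient_mul_card_subgroup N
  rw [h, Nat.factorization_mul (Nat.card_pos).ne' (Nat.card_pos).ne', Finsupp.add_apply, add_comm]

theorem nu_index (N : Subgroup G) (p : ℕ) :
    (Nat.card G).factorization p = (Nat.card N).factorization p + N.index.factorization p := by
  rw [nu_mul N p]
  rfl

/-- A subgroup all of whose `p`-elements lie in `C` -/
theorem nu_le_of_pEl {p : ℕ} [hp : Fact p.Prime] (A C : Subgroup G) (h : ∀ y ∈ A, PEl p y → y ∈ C) :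
    (Nat.card A).factorization p ≤ (Nat.card C).factorization p := by
  obtain ⟨Y⟩ : Nonempty (Sylow p A) := inferInstance
  have h1 : Nat.card (Y : Subgroup A) = p ^ (Nat.card A).factorization p := Y.card_eq_multiplicity
  have h2 : (Y : Subgroup A).map A.subtype ≤ C := by
    rintro _ ⟨y, hy, rfl⟩
    refine h _ y.2 ?_
    obtain ⟨k, hk⟩ := Y.2 ⟨y, hy⟩
    exact ⟨k, congrArg (fun z => ((z : Y) : A).1) hk⟩
  have h3 : Nat.card ((Y : Subgroup A).map A.subtype) = p ^ (Nat.card A).factorization p := by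
    rw [Subgroup.card_map_of_injective A.subtype_injective, h1]
  have h4 := fac_le (card_ne_zero C) (h3 ▸ Subgroup.card_dvd_of_le h2) p
  rw [Nat.factorization_pow] at h4
  simpa [hp.out.factorization_self] using h4

end Nu

/-- Existence of a maximal solvable normal subgroup below `K`. -/
theorem exists_rad {M : Type u} [Group M] [Finite M] (K : Subgroup M) : ∃ S : Subgroup M, ∃ _ : S.Normal,
    S ≤ K ∧ Group.IsSolvable S ∧ ∀ A : Subgroup (M ⧸ S), A.Normal → A ≤ K.map (QuotientGroup.mk' S) →
      Group.IsSolvable A → A = ⊥ := by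
  classical
  obtain ⟨S, ⟨hS1, hS2, hS3⟩, hmax⟩ := (Set.toFinite {S : Subgroup M | S.Normal ∧ S ≤ K ∧ Group.IsSolvable S}).exists_maximal
    ⟨⊥, inferInstance, bot_le, inferInstance⟩
  refine ⟨S, hS1, hS2, hS3, ?_⟩
  intro A hA hAK hAs
  have hf : Function.Surjective (QuotientGroup.mk' S) := QuotientGroup.mk'_surjective S
  have h1 : (A.comap (QuotientGroup.mk' S)).Normal := hA.comap _
  have h2 : A.comap (QuotientGroup.mk' S) ≤ K := by
    intro x hx
    obtain ⟨k, hk, hkx⟩ := hAK hx
    have h3 : k⁻¹ * x ∈ S := by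
      rw [← QuotientGroup.eq]
      exact hkx
    have := K.mul_mem hk (hS2 h3)
    rwa [mul_inv_cancel_left] at this
  have h3 : S ≤ A.comap (QuotientGroup.mk' S) := by
    intro x hx
    rw [Subgroup.mem_comap]
    have : (QuotientGroup.mk' S) x = 1 := (QuotientGroup.eq_one_iff x).2 hx
    rw [this]
    exact A.one_mem
  have h4 : Group.IsSolvable (A.comap (QuotientGroup.mk' S)) := by
    let g : (A.comap (QuotientGroup.mk' S)) →* A := (QuotientGroup.mk' S).subgroupComap A
    refine Group.isSolvable_of_ker_le_range (S.subgroupOf (A.comap (QuotientGroup.mk' S))).subtype g ?_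
      (hG' := ?_) (hG'' := hAs)
    · intro x hx
      have hx1 : (QuotientGroup.mk' S) (x : M) = 1 := congrArg Subtype.val (MonoidHom.mem_ker.1 hx)
      have hx2 : (x : M) ∈ S := (QuotientGroup.eq_one_iff _).1 hx1
      exact ⟨⟨x, hx2⟩, rfl⟩
    · exact Group.isSolvable_of_isSolvable_injective (f := (Subgroup.subgroupOfEquivOfLe h3).toMonoidHom)
        (Subgroup.subgroupOfEquivOfLe h3).injective
  have h5 : A.comap (QuotientGroup.mk' S) = S := le_antisymm (hmax ⟨h1, h2, h4⟩ h3) h3
  rw [eq_bot_iff]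
  intro x hx
  obtain ⟨y, rfl⟩ := hf x
  have : y ∈ S := by
    rw [← h5]
    exact hx
  exact Subgroup.mem_bot.2 ((QuotientGroup.eq_one_iff y).2 this)

/-- a `p`-element acting trivially on a `p'`-subgroup `S` and on `K / S` acts trivially on `K` -/
theorem comm_of_comm {p : ℕ} (hp : p.Prime) {M : Type u} [Group M] [Finite M] {S : Subgroup M}
    (hS : ¬ p ∣ Nat.card S) {g k : M} (hg : PEl p g) (h1 : ∀ s ∈ S, g * s = s * g) (h2 : k⁻¹ * g * k * g⁻¹ ∈ S) :
    g * k = k * g := by
  obtain ⟨n, hn⟩ := hg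
  set s := k⁻¹ * g * k * g⁻¹ with hs
  have h3 : g * k = k * s * g := by rw [hs]; group
  have h4 : ∀ m : ℕ, g ^ m * k = k * s ^ m * g ^ m := by
    intro m
    induction m with
    | zero => simp
    | succ m IH =>
      have h5 : g * s ^ m = s ^ m * g := (Commute.pow_right (h1 s h2) m).eq
      calc g ^ (m + 1) * k = g * (g ^ m * k) := by rw [pow_succ', mul_assoc]
        _ = g * k * s ^ m * g ^ m := by rw [IH]; group
        _ = k * s * (g * s ^ m) * g ^ m := by rw [h3]; group
        _ = k * s ^ (m + 1) * g ^ (m + 1) := by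
          rw [h5, pow_succ' s m, pow_succ' g m]
          group
  have h5 := h4 (p ^ n)
  rw [hn, one_mul, mul_one] at h5
  have h6 : s ^ p ^ n = 1 := by
    have : k * 1 = k * s ^ p ^ n := by rw [mul_one]; exact h5
    exact (mul_left_cancel this).symm
  have h7 : orderOf s ∣ p ^ n := orderOf_dvd_of_pow_eq_one h6
  have h8 : orderOf s ∣ Nat.card S := by
    have := orderOf_dvd_natCard (⟨s, h2⟩ : S)
    rwa [Subgroup.orderOf_mk] at this
  have h9 : Nat.Coprime (p ^ n) (Nat.card S) := Nat.Coprime.pow_left n ((Nat.Prime.coprime_iff_not_dvd hp).2 hS)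
  have h10 : s = 1 := orderOf_eq_one_iff.1 (Nat.eq_one_of_dvd_coprimes h9 h7 h8)
  rw [h10, mul_one] at h3
  exact h3

theorem not_dvd_orderOf {p : ℕ} {M : Type u} [Group M] [Finite M] {K : Subgroup M} (hK : ¬ p ∣ Nat.card K) {x : M}
    (hx : x ∈ K) : ¬ p ∣ orderOf x := by
  intro h
  apply hK
  have := orderOf_dvd_natCard (⟨x, hx⟩ : K)
  rw [Subgroup.orderOf_mk] at this
  exact h.trans this

/-- The bound for a group with a normal `p`-complement on which `p`-elements act faithfully. -/
theorem m_bound {p c d e : ℕ} [hpf : Fact p.Prime] (hL : Lev.{u} p c d) (hNs : NsOrb.{u} p)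
    (M : Type u) [Group M] [Finite M] (K : Subgroup M) (hK : LP p K)
    (hf : ∀ g : M, PEl p g → (∀ x ∈ K, g * x = x * g) → g = 1) (hcp : Cp p e M) :
    c * (Nat.card M).factorization p ≤ c * e + d * e := by
  have hp := hpf.out
  have hKn := hK.normal
  obtain ⟨S, hSn, hSK, hSs, hrad⟩ := exists_rad K
  set f := QuotientGroup.mk' S with hf'
  have hfs : Function.Surjective f := QuotientGroup.mk'_surjective S
  have hKqn : (K.map f).Normal := hKn.map f hfs
  have hKq : LP p (K.map f) := by
    refine ⟨hKqn, ?_, ?_⟩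
    · intro h
      exact hK.cop (h.trans (Subgroup.card_map_dvd K f))
    · intro y
      obtain ⟨x, rfl⟩ := hfs y
      obtain ⟨k, hk⟩ := hK.isP x
      exact ⟨k, x ^ p ^ k, hk, map_pow f x _⟩
  obtain ⟨xq, hxq, hx⟩ := hNs (M ⧸ S) (K.map f) hKq hrad
  obtain ⟨x, hxK, rfl⟩ := hxq
  have hcn : (Subgroup.centralizer (K.map f : Set (M ⧸ S))).Normal := inferInstance
  set C := (Subgroup.centralizer (K.map f : Set (M ⧸ S))).comap f with hC
  have hCn : C.Normal := hcn.comap f
  have hSC : S ≤ C := by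
    intro s hs
    rw [hC, Subgroup.mem_comap]
    have : f s = 1 := (QuotientGroup.eq_one_iff s).2 hs
    rw [this]
    exact Subgroup.one_mem _
  have hSc : ¬ p ∣ Nat.card S := fun h => hK.cop (h.trans (Subgroup.card_dvd_of_le hSK))
  -- the class of `x`
  have h1 : (Nat.card (Subgroup.centralizer ({x} : Set M))).factorization p ≤ (Nat.card C).factorization p := by
    apply nu_le_of_pEl
    intro y hy hyp
    rw [Subgroup.mem_centralizer_singleton_iff] at hy
    rw [hC, Subgroup.mem_comap, Subgroup.mem_centralizer_iff]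
    intro k hk
    obtain ⟨n, hn⟩ := hyp
    refine (hx (f y) ⟨n, by rw [← map_pow, hn, map_one]⟩ ?_ k hk).symm
    rw [← map_mul, ← map_mul, hy]
  have h2 := hcp x (not_dvd_orderOf hK.cop hxK)
  have h3 := nu_index (Subgroup.centralizer ({x} : Set M)) p
  -- the group `C`
  have hZ : K.map f ⊓ Subgroup.centralizer (K.map f : Set (M ⧸ S)) = ⊥ := by
    apply hrad _ inferInstance inf_le_left
    refine Group.isSolvable_of_comm fun a b => Subtype.ext ?_
    exact (Subgroup.mem_centralizer_iff.1 b.2.2 a a.2.1)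
  have hLPC : LP p (S.subgroupOf C) := by
    refine ⟨inferInstance, ?_, ?_⟩
    · intro h
      rw [Nat.card_congr (Subgroup.subgroupOfEquivOfLe hSC).toEquiv] at h
      exact hSc h
    · rintro ⟨z, hz⟩
      obtain ⟨k, hk⟩ := hK.isP z
      refine ⟨k, ?_⟩
      rw [Subgroup.mem_subgroupOf]
      change z ^ p ^ k ∈ S
      have h4 : f (z ^ p ^ k) ∈ K.map f ⊓ Subgroup.centralizer (K.map f : Set (M ⧸ S)) :=
        ⟨⟨_, hk, rfl⟩, C.pow_mem hz _⟩
      rw [hZ, Subgroup.mem_bot] at h4
      exact (QuotientGroup.eq_one_iff _).1 h4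
  have hCs : Group.IsSolvable (S.subgroupOf C) :=
    Group.isSolvable_of_isSolvable_injective (f := (Subgroup.subgroupOfEquivOfLe hSC).toMonoidHom)
      (Subgroup.subgroupOfEquivOfLe hSC).injective
  have h4 : c * (Nat.card C).factorization p ≤ d * e := by
    refine hL C (S.subgroupOf C) e hLPC hCs ?_ ?_
    · rintro ⟨g, hg⟩ ⟨n, hn⟩ hgS
      have hgp : PEl p g := ⟨n, congrArg Subtype.val hn⟩
      have h5 : ∀ s ∈ S, g * s = s * g := by
        intro s hs
        exact congrArg Subtype.val (hgS ⟨s, hSC hs⟩ (by rw [Subgroup.mem_subgroupOf]; exact hs))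
      apply Subtype.ext
      apply hf g hgp
      intro k hk
      apply comm_of_comm hp hSc hgp h5
      have h6 : f (k⁻¹ * g * k * g⁻¹) = 1 := by
        have h7 := Subgroup.mem_centralizer_iff.1 hg (f k) ⟨k, hk, rfl⟩
        rw [map_mul, map_mul, map_mul, map_inv, map_inv, mul_assoc (f k)⁻¹, ← h7]
        group
      exact (QuotientGroup.eq_one_iff _).1 h6
    · intro y hy
      exact hcp.normal C y (not_dvd_orderOf hLPC.cop hy)
  have h5 : (Nat.card M).factorization p ≤ (Nat.card C).factorization p + e := by omega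
  calc c * (Nat.card M).factorization p ≤ c * ((Nat.card C).factorization p + e) := Nat.mul_le_mul_left c h5
    _ = c * (Nat.card C).factorization p + c * e := by ring
    _ ≤ c * e + d * e := by omega

/-- The same when the complement is solvable. -/
theorem m_bound_solv {p c d e : ℕ} (hL : Lev.{u} p c d) (M : Type u) [Group M] [Finite M] (K : Subgroup M)
    (hK : LP p K) (hs : Group.IsSolvable K) (hf : ∀ g : M, PEl p g → (∀ x ∈ K, g * x = x * g) → g = 1)
    (hcp : Cp p e M) : c * (Nat.card M).factorization p ≤ d * e :=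
  hL M K e hK hs hf fun x hx => hcp x (not_dvd_orderOf hK.cop hx)

end Cfsg.Agent.H527.RC
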