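import Cfsg.Agent.H527.RC.Stmts
import Cfsg.Agent.S4218
import Cfsg.Agent.PLocal.HallHigmanPrime

/-!
# S4191: the application of `PLin` (helper527)
-/

set_option autoImplicit false

namespace Cfsg.Agent.H527.RC

open scoped Pointwise commutatorElement

universe u

/-- the automorphism induced on the Frattini quotient -/
def frattMap (Q : Type u) [Group Q] : MulAut Q →* MulAut (Q ⧸ frattini Q) where
  toFun α := QuotientGroup.congr (frattini Q) (frattini Q) α (by
    have h : (frattini Q).Characteristic := inferInstance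
    exact Subgroup.characteristic_iff_map_eq.1 h α)
  map_one' := by
    ext x
    induction x using QuotientGroup.induction_on
    rfl
  map_mul' α β := by
    ext x
    induction x using QuotientGroup.induction_on
    rfl

theorem frattMap_mk {Q : Type u} [Group Q] (α : MulAut Q) (x : Q) :
    frattMap Q α (x : Q ⧸ frattini Q) = ((α x : Q) : Q ⧸ frattini Q) := rfl

theorem exists_sylow_sup {D : Type u} [Group D] [Finite D] (p : ℕ) [hp : Fact p.Prime] (R : Subgroup D) [R.Normal]
    (hR : (Nat.card R).Coprime p) (Y : Sylow p D) : LP p (R.subgroupOf (R ⊔ (Y : Subgroup D))) := by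
  refine ⟨inferInstance, ?_, ?_⟩
  · intro h
    have h1 : Nat.card (R.subgroupOf (R ⊔ (Y : Subgroup D))) = Nat.card R :=
      Nat.card_congr (Subgroup.subgroupOfEquivOfLe le_sup_left).toEquiv
    rw [h1] at h
    exact (Nat.Prime.coprime_iff_not_dvd hp.out).1 hR.symm h
  · rintro ⟨h, hh⟩
    rw [← SetLike.mem_coe, Subgroup.normal_mul] at hh
    obtain ⟨r, hr, y, hy, hry⟩ := hh
    obtain ⟨k, hk⟩ := Y.2 ⟨y, hy⟩
    refine ⟨k, ?_⟩
    rw [Subgroup.mem_subgroupOf]
    change h ^ p ^ k ∈ R
    have h2 : (QuotientGroup.mk' R) (h ^ p ^ k) = 1 := by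
      rw [map_pow, ← hry]
      change ((QuotientGroup.mk' R) (r * y)) ^ p ^ k = 1
      rw [map_mul, (QuotientGroup.eq_one_iff (N := R) r).2 hr |> fun h => (h : (QuotientGroup.mk' R) r = 1), one_mul,
        ← map_pow]
      have h3 : y ^ p ^ k = 1 := congrArg Subtype.val hk
      rw [h3, map_one]
    exact (QuotientGroup.eq_one_iff _).1 h2

theorem card_sup_sylow {D : Type u} [Group D] [Finite D] (p : ℕ) [hp : Fact p.Prime] (Z : Subgroup D)
    (Y : Sylow p D) (h : (Y : Subgroup D) ≤ Z) :
    (Nat.card Z).factorization p = (Nat.card D).factorization p := by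
  apply le_antisymm
  · exact (Nat.factorization_le_iff_dvd (Nat.card_pos).ne' (Nat.card_pos).ne').2 (Subgroup.card_subgroup_dvd_card Z) p
  · have h1 : Nat.card (Y : Subgroup D) ∣ Nat.card Z := Subgroup.card_dvd_of_le h
    have h2 : Nat.card (Y : Subgroup D) = p ^ (Nat.card D).factorization p := Y.card_eq_multiplicity
    have h3 := (Nat.factorization_le_iff_dvd (Nat.card_pos).ne' (Nat.card_pos).ne').2 h1 p
    rw [h2, Nat.factorization_pow] at h3
    simpa [hp.out.factorization_self] using h3

/-- The application of `PLin` to the Frattini quotient of `O_p(H)`. -/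
theorem plin_apply {p a b : ℕ} [hp : Fact p.Prime] (hPL : PLin.{u} p a b) (H : Type u) [Group H] [Finite H]
    (hsol : Cfsg.IsPSolvable p H) (hcore : Cfsg.pPrimeCore p H = ⊥) :
    b * (Nat.card (H ⧸ Cfsg.pCore p H)).factorization p ≤ a * (Nat.card (Cfsg.pCore p H)).factorization p := by
  have hQp : IsPGroup p (Cfsg.pCore p H) := Cfsg.Agent.Lib.Cores.pCore_isPGroup p
  have hC : Subgroup.centralizer (Cfsg.pCore p H : Set H) ≤ Cfsg.pCore p H :=
    Cfsg.Agent.Lib.PSolvable.centralizer_pCore_le_of_pSolvable p hsol hcore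
  set Q := Cfsg.pCore p H with hQ
  letI : CommGroup (Q ⧸ frattini Q) :=
    { (inferInstance : Group (Q ⧸ frattini Q)) with mul_comm := Cfsg.Agent.H940.frattini_quot_comm hQp }
  let g : H →* MulAut (Q ⧸ frattini Q) := (frattMap Q).comp MulAut.conjNormal
  have hg : ∀ (h : H) (x : Q), g h (x : Q ⧸ frattini Q) = ((MulAut.conjNormal h x : Q) : Q ⧸ frattini Q) :=
    fun h x => rfl
  have hker : g.ker = Q := by
    ext h
    refine Iff.trans ?_ (Cfsg.Agent.S4218.core hC h)
    rw [MonoidHom.mem_ker]
    constructor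
    · intro h1 y
      have h2 : g h ((y : Q) : Q ⧸ frattini Q) = (y : Q ⧸ frattini Q) := by rw [h1]; rfl
      rw [hg, eq_comm, QuotientGroup.eq] at h2
      have h3 : (MulAut.conjNormal h y : Q) * y⁻¹ ∈ frattini Q := by
        have h4 := (inferInstance : (frattini Q).Normal).conj_mem _ h2 y
        simpa [mul_assoc] using h4
      exact ⟨_, h3, rfl⟩
    · intro h1
      ext x
      induction x using QuotientGroup.induction_on with
      | H x =>
        rw [hg, MulAut.one_apply, eq_comm, QuotientGroup.eq]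
        obtain ⟨z, hz, hz'⟩ := h1 x
        have h3 : (MulAut.conjNormal h x : Q) * x⁻¹ = z := Subtype.ext hz'
        have h4 := (inferInstance : (frattini Q).Normal).conj_mem _ (h3 ▸ hz : (MulAut.conjNormal h x : Q) * x⁻¹ ∈ frattini Q) x⁻¹
        simpa [mul_assoc] using h4
  let G : H ⧸ Q →* MulAut (Q ⧸ frattini Q) := QuotientGroup.lift Q g (by rw [hker])
  have hGinj : Function.Injective G := by
    rw [injective_iff_map_eq_one]
    intro x
    induction x using QuotientGroup.induction_on with
    | H x =>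
      intro hx
      rw [QuotientGroup.lift_mk] at hx
      rw [QuotientGroup.eq_one_iff, ← hker]
      exact hx
  have hcD : Cfsg.pCore p (H ⧸ Q) = ⊥ := Cfsg.Agent.Lib.Cores.pCore_quotient_pCore p
  have hsD : Cfsg.IsPSolvable p (H ⧸ Q) :=
    Cfsg.Agent.Lib.PSolvable.IsPSolvable_of_surjective p hsol (QuotientGroup.mk' Q) (QuotientGroup.mk'_surjective Q)
  have hHH := Cfsg.Agent.PLocal.HallHigmanPrime.centralizer_pPrimeCore_le_of_pSolvable p hsD hcD
  have hRc := Cfsg.Agent.Lib.Cores.pPrimeCore_coprime (G := H ⧸ Q) p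
  have hRn : (Cfsg.pPrimeCore p (H ⧸ Q)).Normal := Cfsg.Agent.Lib.Cores.pPrimeCore_normal p
  set R := Cfsg.pPrimeCore p (H ⧸ Q) with hR
  obtain ⟨Y⟩ : Nonempty (Sylow p (H ⧸ Q)) := inferInstance
  have hLP := exists_sylow_sup p R hRc Y
  let X : Subgroup (H ⧸ Q) := R ⊔ (Y : Subgroup (H ⧸ Q))
  letI : DistribMulAction X (Additive (Q ⧸ frattini Q)) :=
    { smul := fun x v => Additive.ofMul (G (x : H ⧸ Q) v.toMul)
      one_smul := fun v => by
        change Additive.ofMul (G ((1 : X) : H ⧸ Q) v.toMul) = v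
        rw [Subgroup.coe_one, map_one]
        rfl
      mul_smul := fun x y v => by
        change Additive.ofMul (G ((x * y : X) : H ⧸ Q) v.toMul) = Additive.ofMul (G x (G y v.toMul))
        rw [Subgroup.coe_mul, map_mul]
        rfl
      smul_zero := fun x => by
        change Additive.ofMul (G x 1) = 0
        rw [map_one]
        rfl
      smul_add := fun x v w => by
        change Additive.ofMul (G x (v.toMul * w.toMul)) = Additive.ofMul (G x v.toMul * G x w.toMul)
        rw [map_mul] }
  have hsm : ∀ (x : X) (v : Additive (Q ⧸ frattini Q)), x • v = Additive.ofMul (G (x : H ⧸ Q) v.toMul) :=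
    fun x v => rfl
  have h1 := hPL X (Additive (Q ⧸ frattini Q)) (R.subgroupOf X) hLP ?_ ?_ ?_
  · have h2 : (Nat.card X).factorization p = (Nat.card (H ⧸ Q)).factorization p :=
      card_sup_sylow p X Y le_sup_right
    have h3 : (Nat.card (Additive (Q ⧸ frattini Q))).factorization p ≤ (Nat.card Q).factorization p := by
      have h4 : Nat.card (Additive (Q ⧸ frattini Q)) = Nat.card (Q ⧸ frattini Q) := rfl
      rw [h4]
      exact (Nat.factorization_le_iff_dvd (Nat.card_pos).ne' (Nat.card_pos).ne').2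
        (Subgroup.card_quotient_dvd_card _) p
    rw [h2] at h1
    exact h1.trans (Nat.mul_le_mul_left a h3)
  · intro x hx hxR
    obtain ⟨k, hk⟩ := hx
    have h2 : (x : H ⧸ Q) ∈ R := by
      apply hHH
      rw [Subgroup.mem_centralizer_iff]
      intro r hr
      have h3 := hxR ⟨r, le_sup_left (a := R) hr⟩ (by rw [Subgroup.mem_subgroupOf]; exact hr)
      exact (congrArg Subtype.val h3).symm
    apply Subtype.ext
    have h3 : orderOf (x : H ⧸ Q) ∣ p ^ k := orderOf_dvd_of_pow_eq_one (congrArg Subtype.val hk)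
    have h4 : orderOf (x : H ⧸ Q) ∣ Nat.card R := by
      have := orderOf_dvd_natCard (⟨(x : H ⧸ Q), h2⟩ : R)
      rwa [Subgroup.orderOf_mk] at this
    have h5 : Nat.Coprime (p ^ k) (Nat.card R) := Nat.Coprime.pow_left k hRc.symm
    have h6 : orderOf (x : H ⧸ Q) = 1 := Nat.eq_one_of_dvd_coprimes h5 h3 h4
    exact orderOf_eq_one_iff.1 h6
  · intro v
    have := Cfsg.Agent.H940.frattini_quot_pow hQp v.toMul
    exact congrArg Additive.ofMul this
  · intro x hx
    apply Subtype.ext
    apply hGinj
    rw [Subgroup.coe_one, map_one]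
    ext v
    exact congrArg Additive.toMul (hx (Additive.ofMul v))

end Cfsg.Agent.H527.RC
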