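import Cfsg.Agent.H120.RC.Ord
import Cfsg.Agent.H447.RC.Fix
import Cfsg.Agent.H527.RC.Defs
import Cfsg.Agent.H527.RC.FHB
import Cfsg.Agent.H699.RC.PR7
import Cfsg.Agent.H822.Cls.Parts

/-!
# S4191, task PR5: `CorePrim 5 1 0 2` (proof and text of helper478, H478/RC/Pr/PR5)

The proof in one file: sections of `S / A` on which a bad element acts, fixed points on `S / A`, `5`-nilpotent groups on
`3 ^ 4`, symplectic modules in characteristic two, numbers, counting, assembly.
-/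

set_option autoImplicit false
set_option linter.unusedSectionVars false
set_option linter.style.haveILetI false
set_option linter.unusedVariables false

/-!
## S4191, primitive linear groups: the prime `p` does not divide `|S / A|`
-/

namespace Cfsg.Agent.H527.RC.Pr5

open scoped Pointwise commutatorElement
open Cfsg.Agent.H527.RC Cfsg.Agent.H822.Cls Cfsg.Agent.H668.Dim

universe u

section

variable {H W : Type*} [Group H] [AddCommGroup W] [Finite W] [DistribMulAction H W]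

/-- elements centralising an irreducible subgroup commute -/
theorem comm_of_irr {L : Subgroup H}
    (hfaith : ∀ h : H, (∀ w : W, h • w = w) → h = 1)
    (hirr : ∀ X : AddSubgroup W, (∀ g ∈ L, ∀ w ∈ X, g • w ∈ X) → X = ⊥ ∨ X = ⊤) {x y : H}
    (hx : ∀ l ∈ L, x * l = l * x) (hy : ∀ l ∈ L, y * l = l * y) : x * y = y * x := by
  classical
  let T : Set (AddMonoid.End W) := {f | ∃ l ∈ L, f = DistribMulAction.toAddMonoidEnd H W l}
  let C : Subring (AddMonoid.End W) := Subring.centralizer T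
  have hC : ∀ f ∈ C, ∀ l ∈ L, ∀ w : W, f (l • w) = l • f w := by
    intro f hf l hl w
    have h1 := Subring.mem_centralizer_iff.1 hf _ ⟨l, hl, rfl⟩
    exact (DFunLike.congr_fun h1 w).symm
  have hCmem : ∀ x : H, (∀ l ∈ L, x * l = l * x) → DistribMulAction.toAddMonoidEnd H W x ∈ C := by
    intro x hx
    refine Subring.mem_centralizer_iff.2 ?_
    rintro _ ⟨l, hl, rfl⟩
    rw [← map_mul, ← map_mul, hx l hl]
  have hfin : Finite (AddMonoid.End W) := Finite.of_injective (fun f : AddMonoid.End W => (f : W → W)) DFunLike.coe_injective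
  have hfC : Finite C := inferInstance
  by_cases hW : Subsingleton W
  · rw [hfaith (x * y) fun w => Subsingleton.elim _ _, hfaith (y * x) fun w => Subsingleton.elim _ _]
  have hW' : Nontrivial W := not_subsingleton_iff_nontrivial.1 hW
  have hnt : Nontrivial C := by
    refine ⟨0, 1, fun h => ?_⟩
    obtain ⟨w, hw⟩ := exists_ne (0 : W)
    have h1 : (0 : AddMonoid.End W) = 1 := congrArg Subtype.val h
    exact hw (DFunLike.congr_fun h1 w).symm
  have hnz : NoZeroDivisors C := by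
    refine ⟨?_⟩
    rintro ⟨a, ha⟩ ⟨b, hb⟩ hab
    have hab' : ∀ w, a (b w) = 0 := fun w => DFunLike.congr_fun (congrArg Subtype.val hab) w
    by_cases hb0 : b = 0
    · exact Or.inr (Subtype.ext hb0)
    · left
      have h1 : (AddMonoidHom.range (b : W →+ W)) = ⊤ := by
        rcases hirr (AddMonoidHom.range (b : W →+ W)) (by
          rintro g hg _ ⟨w, rfl⟩
          exact ⟨g • w, hC b hb g hg w⟩) with h | h
        · exfalso
          apply hb0
          ext w
          have h2 : (b : W →+ W) w ∈ AddMonoidHom.range (b : W →+ W) := ⟨w, rfl⟩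
          rw [h] at h2
          exact h2
        · exact h
      refine Subtype.ext ?_
      ext w
      obtain ⟨v, rfl⟩ : w ∈ AddMonoidHom.range (b : W →+ W) := by rw [h1]; trivial
      exact hab' v
  have hdom : IsDomain C := NoZeroDivisors.to_isDomain C
  have hcomm := (Finite.isDomain_to_isField C).mul_comm ⟨_, hCmem x hx⟩ ⟨_, hCmem y hy⟩
  have h1 : DistribMulAction.toAddMonoidEnd H W (x * y) = DistribMulAction.toAddMonoidEnd H W (y * x) := by
    rw [map_mul, map_mul]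
    exact congrArg Subtype.val hcomm
  have h2 : (y * x)⁻¹ * (x * y) = 1 := by
    apply hfaith
    intro w
    have h3 : (x * y) • w = (y * x) • w := DFunLike.congr_fun h1 w
    rw [mul_smul, h3, inv_smul_smul]
  exact (inv_mul_eq_one.1 h2).symm

end

section

variable {H : Type*} [Group H] [Finite H]

/-- normal subgroups of coprime orders commute -/
theorem comm_of_coprime {p : ℕ} (hp : p.Prime) {L T : Subgroup H} (hL : L.Normal) (hT : T.Normal) (hpL : ¬ p ∣ Nat.card L)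
    (hTp : IsPGroup p T) : ∀ l ∈ L, ∀ t ∈ T, t * l = l * t := by
  intro l hl t ht
  have h1 : t * l * t⁻¹ * l⁻¹ ∈ L := L.mul_mem (hL.conj_mem l hl t) (L.inv_mem hl)
  have h2 : t * l * t⁻¹ * l⁻¹ ∈ T := by
    have : t * l * t⁻¹ * l⁻¹ = t * (l * t⁻¹ * l⁻¹) := by group
    rw [this]
    exact T.mul_mem ht (hT.conj_mem _ (T.inv_mem ht) l)
  have h3 : orderOf (t * l * t⁻¹ * l⁻¹) ∣ Nat.card L := by
    exact Subgroup.orderOf_dvd_natCard L h1
  obtain ⟨k, hk⟩ := hTp ⟨_, h2⟩
  have h4 : orderOf (t * l * t⁻¹ * l⁻¹) ∣ p ^ k := orderOf_dvd_of_pow_eq_one (congrArg Subtype.val hk)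
  have h5 : (Nat.card L).Coprime (p ^ k) := Nat.Coprime.pow_right k ((Nat.Prime.coprime_iff_not_dvd hp).2 hpL).symm
  have h6 : t * l * t⁻¹ * l⁻¹ = 1 := by
    rw [← orderOf_eq_one_iff]
    exact Nat.eq_one_of_dvd_coprimes h5 h3 h4
  rw [mul_inv_eq_one, mul_inv_eq_iff_eq_mul] at h6
  exact h6

end

section

variable {H W F : Type u} [Group H] [Finite H] [AddCommGroup W] [Finite W] [Nontrivial W]
  [DistribMulAction H W] [Field F] [Finite F] [Module F W] (D : Prim H W F)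

theorem S_nilpotent : Group.IsNilpotent D.S := D.isNilpotent_of_le D.S le_rfl

/-- `p`-elements of `S` lie in `A` -/
theorem mem_A_of_pel {p : ℕ} (hp : p.Prime) {L : Subgroup H} (hL : LP p L)
    (hfaith : ∀ h : H, (∀ w : W, h • w = w) → h = 1)
    (hirr : ∀ X : AddSubgroup W, (∀ g ∈ L, ∀ w ∈ X, g • w ∈ X) → X = ⊥ ∨ X = ⊤) {s : H} (hs : s ∈ D.S)
    (hsp : PEl p s) : s ∈ D.A := by
  have : Fact p.Prime := ⟨hp⟩
  have hnil := S_nilpotent D
  obtain ⟨P⟩ : Nonempty (Sylow p D.S) := inferInstance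
  have hPn : (P : Subgroup D.S).Normal := by
    have := ((Group.isNilpotent_of_finite_tfae (G := D.S)).out 0 3).1 hnil
    exact this p ⟨hp⟩ P
  have hPc := Sylow.characteristic_of_normal P hPn
  set T : Subgroup H := (P : Subgroup D.S).map D.S.subtype with hT
  have hTn : T.Normal := by
    have := D.S_normal
    exact ConjAct.normal_of_characteristic_of_normal
  have hTp : IsPGroup p T := P.isPGroup'.map _
  have hcomm := comm_of_coprime hp hL.normal hTn hL.cop hTp
  have hpT : ∀ x ∈ D.S, PEl p x → x ∈ T := by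
    rintro x hx ⟨k, hk⟩
    have hz : IsPGroup p (Subgroup.zpowers (⟨x, hx⟩ : D.S)) := by
      rintro ⟨_, i, rfl⟩
      refine ⟨k, Subtype.ext (Subtype.ext ?_)⟩
      show (x ^ i) ^ p ^ k = 1
      rw [← zpow_natCast, ← zpow_mul, mul_comm i, zpow_mul, zpow_natCast, hk, one_zpow]
    obtain ⟨P', hP'⟩ := hz.exists_le_sylow
    have hPP : P' = P := by
      have := Sylow.unique_of_normal P hPn
      exact Subsingleton.elim _ _
    rw [hPP] at hP'
    exact ⟨_, hP' (Subgroup.mem_zpowers _), rfl⟩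
  apply D.cent_le
  rw [Subgroup.mem_centralizer_iff]
  intro t ht
  obtain ⟨n, hn, k, hk⟩ := exists_pow_eq t hp
  have h1 : ⁅s, t ^ n⁆ = 1 := by
    rw [commutatorElement_eq_one_iff_mul_comm]
    have hsT := hpT s hs hsp
    have htT := hpT (t ^ n) (D.S.pow_mem ht n) ⟨k, hk⟩
    exact comm_of_irr hfaith hirr (fun l hl => hcomm l hl s hsT) (fun l hl => hcomm l hl _ htT)
  obtain ⟨j, hj⟩ := hsp
  have h3 : ⁅s, t⁆ ^ p ^ j = 1 := by
    rw [← cm_pow_left D hs ht, hj, commutatorElement_one_left]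
  rw [cm_pow_right D hs ht] at h1
  have h4 : ⁅s, t⁆ = 1 := by
    rw [← orderOf_eq_one_iff]
    exact Nat.eq_one_of_dvd_coprimes (Nat.Coprime.pow_left j hn) (orderOf_dvd_of_pow_eq_one h3)
      (orderOf_dvd_of_pow_eq_one h1)
  exact (commutatorElement_eq_one_iff_mul_comm.1 h4).symm

theorem not_mem_Q {p : ℕ} (hp : p.Prime) {L : Subgroup H} (hL : LP p L)
    (hfaith : ∀ h : H, (∀ w : W, h • w = w) → h = 1)
    (hirr : ∀ X : AddSubgroup W, (∀ g ∈ L, ∀ w ∈ X, g • w ∈ X) → X = ⊥ ∨ X = ⊤)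
    {Q : Finset ℕ} {m : ℕ → ℕ} (hD : D.Num Q m) : p ∉ Q := by
  intro hpQ
  have h1 := card_XQ D hD hpQ
  have h2 : ∀ x : XQ D p, x = 1 := by
    intro x
    obtain ⟨s, hs, rfl⟩ := exists_cl D x
    rw [cl_eq_one_iff]
    obtain ⟨n, hn, k, hk⟩ := exists_pow_eq s hp
    exact pow_mem_iff D hn hs.2 (mem_A_of_pel D hp hL hfaith hirr (D.S.pow_mem hs.1 n) ⟨k, hk⟩)
  have h3 : Nat.card (XQ D p) = 1 := by
    rw [Nat.card_eq_one_iff_unique]
    exact ⟨⟨fun a b => by rw [h2 a, h2 b]⟩, ⟨1⟩⟩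
  rw [h1] at h3
  have h4 := hD.one_le p hpQ
  have h5 : 1 < p ^ (2 * m p) := Nat.one_lt_pow (by omega) hp.one_lt
  omega

end

end Cfsg.Agent.H527.RC.Pr5

/-!
## S4191, primitive linear groups: the section on which a bad `p`-element acts
-/

namespace Cfsg.Agent.H527.RC.Pr5

open scoped Pointwise commutatorElement
open Cfsg Cfsg.Agent.Lib.Cores
open Cfsg.Agent.H527.RC Cfsg.Agent.H822.Cls Cfsg.Agent.H668.Dim

universe u

section

variable {H : Type u} [Group H] [Finite H]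

theorem pel_card {p : ℕ} (hp : p.Prime) {y : H} (hy : PEl p y) : ∃ j, Nat.card (Subgroup.zpowers y) = p ^ j := by
  obtain ⟨k, hk⟩ := hy
  rw [Nat.card_zpowers]
  obtain ⟨j, -, hj⟩ := (Nat.dvd_prime_pow hp).1 (orderOf_dvd_of_pow_eq_one hk)
  exact ⟨j, hj⟩

theorem pel_isPGroup {p : ℕ} {y : H} (hy : PEl p y) : IsPGroup p (Subgroup.zpowers y) := by
  obtain ⟨k, hk⟩ := hy
  rintro ⟨_, i, rfl⟩
  refine ⟨k, Subtype.ext ?_⟩
  show (y ^ i) ^ p ^ k = 1
  rw [← zpow_natCast, ← zpow_mul, mul_comm i, zpow_mul, zpow_natCast, hk, one_zpow]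

/-- `L ⟨y⟩` splits -/
theorem split_Hy {p : ℕ} (hp : p.Prime) {L : Subgroup H} (hL : LP p L) {y : H} (hy : PEl p y) :
    Split (L.subgroupOf (L ⊔ Subgroup.zpowers y)) ((Subgroup.zpowers y).subgroupOf (L ⊔ Subgroup.zpowers y)) := by
  have hLn := hL.normal
  refine ⟨inferInstance, ?_, ?_, ?_⟩
  · rintro ⟨a, ha⟩ ha' ⟨b, hb⟩ hb'
    obtain ⟨i, hi⟩ := Subgroup.mem_zpowers_iff.1 (Subgroup.mem_subgroupOf.1 ha')
    obtain ⟨j, hj⟩ := Subgroup.mem_zpowers_iff.1 (Subgroup.mem_subgroupOf.1 hb')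
    refine Subtype.ext ?_
    show a * b = b * a
    have hi' : y ^ i = a := hi
    have hj' : y ^ j = b := hj
    rw [← hi', ← hj', ← zpow_add, ← zpow_add, add_comm]
  · obtain ⟨j, hj⟩ := pel_card hp hy
    rw [Nat.card_congr (Subgroup.subgroupOfEquivOfLe (le_sup_left : L ≤ L ⊔ Subgroup.zpowers y)).toEquiv,
      Nat.card_congr (Subgroup.subgroupOfEquivOfLe (le_sup_right : Subgroup.zpowers y ≤ L ⊔ Subgroup.zpowers y)).toEquiv,
      hj]
    exact Nat.Coprime.pow_right j ((Nat.Prime.coprime_iff_not_dvd hp).2 hL.cop).symm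
  · rw [← Subgroup.subgroupOf_sup le_sup_left le_sup_right, Subgroup.subgroupOf_self]

end

section

variable {H W F : Type u} [Group H] [Finite H] [AddCommGroup W] [Finite W] [Nontrivial W]
  [DistribMulAction H W] [Field F] [Finite F] [Module F W] (D : Prim H W F)

/-- `O_q` of the group induced on `X_q` is trivial -/
theorem pCore_range {q : ℕ} (hq : q.Prime) : pCore q (rho D q).range = ⊥ := by
  rw [eq_bot_iff]
  intro x hx
  obtain ⟨⟨_, g, rfl⟩, hx'⟩ : ∃ z : (rho D q).range, x = z := ⟨x, rfl⟩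
  subst hx'
  have h := D.ss q hq ((pCore q (rho D q).range).comap (rho D q).rangeRestrict) inferInstance (by
    intro y hy
    obtain ⟨k, hk⟩ := (pCore_isPGroup (G := (rho D q).range) q) ⟨_, hy⟩
    refine ⟨k, ?_⟩
    have h1 : rho D q (y ^ q ^ k) = 1 := by
      rw [map_pow]
      exact congrArg (fun z : (rho D q).range => (z : MulAut (XQ D q))) (congrArg Subtype.val hk)
    exact (rho_eq_one_iff D _).1 h1) g hx
  rw [Subgroup.mem_bot]
  exact Subtype.ext ((rho_eq_one_iff D g).2 h)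

theorem no_q {q : ℕ} (hq : q.Prime) {L : Subgroup H} (hL : L.Normal) (R : Subgroup (MulAut (XQ D q)))
    (hRL : R ≤ L.map (rho D q)) (hRn : ∀ l ∈ L, ∀ x ∈ R, rho D q l * x * (rho D q l)⁻¹ ∈ R)
    (hRq : IsPGroup q R) : R = ⊥ := by
  set N : Subgroup (rho D q).range := L.map (rho D q).rangeRestrict with hN
  have hNn : N.Normal := hL.map _ (rho D q).rangeRestrict_surjective
  have h1 := map_subtype_pCore q hNn
  rw [pCore_range D hq, inf_bot_eq] at h1
  have h2 : pCore q N = ⊥ := by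
    exact (Subgroup.map_eq_bot_iff_of_injective _ N.subtype_injective).1 h1
  -- transport `R` into `N`
  let f : N →* MulAut (XQ D q) := (rho D q).range.subtype.comp N.subtype
  have hf : Function.Injective f := fun a b hab => Subtype.ext (Subtype.ext hab)
  have hR' : R.comap f ≤ pCore q N := by
    refine le_pCore ⟨?_⟩ ?_
    · rintro x hx ⟨_, l, hl, rfl⟩
      exact hRn l hl _ hx
    · intro x
      obtain ⟨k, hk⟩ := hRq ⟨f x, x.2⟩
      refine ⟨k, Subtype.ext (hf ?_)⟩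
      show f ((x : N) ^ q ^ k) = f 1
      rw [map_pow, map_one]
      exact congrArg Subtype.val hk
  rw [h2] at hR'
  rw [eq_bot_iff]
  intro x hx
  obtain ⟨l, hl, rfl⟩ := hRL hx
  have h3 : (⟨(rho D q).rangeRestrict l, ⟨l, hl, rfl⟩⟩ : N) ∈ R.comap f := hx
  have h4 := hR' h3
  rw [Subgroup.mem_bot] at h4 ⊢
  have h5 := congrArg f h4
  rw [map_one] at h5
  exact h5

variable [Group.IsSolvable H]

/-- a bad `p`-element acts nontrivially on a normalised `r`-group of automorphisms of some `X_q` -/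
theorem sec {p : ℕ} (hp : p.Prime) {L : Subgroup H} (hL : LP p L) {Q : Finset ℕ} {m : ℕ → ℕ} (hD : D.Num Q m)
    (hpQ : p ∉ Q) {y : H} (hy : PEl p y) (hbad : ¬ Group.IsNilpotent (⁅L, Subgroup.zpowers y⁆ : Subgroup H)) :
    ∃ q ∈ Q, q ≠ p ∧ ∃ r, r.Prime ∧ r ≠ p ∧ r ≠ q ∧ ∃ R : Subgroup (MulAut (XQ D q)), IsPGroup r R ∧
      R ≤ (L ⊓ Subgroup.centralizer (D.A : Set H)).map (rho D q) ∧
      (∀ x ∈ R, rho D q y * x * (rho D q y)⁻¹ ∈ R) ∧ ∃ x ∈ R, rho D q y * x ≠ x * rho D q y := by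
  have hpf : Fact p.Prime := ⟨hp⟩
  have hLn := hL.normal
  set H₁ : Subgroup H := L ⊔ Subgroup.zpowers y with hH₁
  have hS := split_Hy hp hL hy
  set L₁ := L.subgroupOf H₁ with hL₁
  set Y₁ := (Subgroup.zpowers y).subgroupOf H₁ with hY₁
  -- `y ≠ 1`
  have hy1 : y ≠ 1 := by
    rintro rfl
    apply hbad
    rw [Subgroup.zpowers_one_eq_bot, Subgroup.commutator_bot_right]
    infer_instance
  have hYle : Subgroup.zpowers y ≤ H₁ := le_sup_right
  have hcY : Nat.card Y₁ = Nat.card (Subgroup.zpowers y) := Nat.card_congr (Subgroup.subgroupOfEquivOfLe hYle).toEquiv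
  have hpY : p ∣ Nat.card Y₁ := by
    obtain ⟨j, hj⟩ := pel_card hp hy
    rw [hcY, hj]
    refine dvd_pow_self p ?_
    rintro rfl
    rw [pow_zero, Subgroup.card_eq_one, Subgroup.zpowers_eq_bot] at hj
    exact hy1 hj
  obtain ⟨P, hP⟩ := hS.exists_sylow hp hpY
  have hYp : IsPGroup p Y₁ := by
    have h1 := pel_isPGroup hy
    exact h1.comap_subtype
  have hPY : (P : Subgroup H₁) = Y₁ := (P.is_maximal' hYp hP).symm
  have hEn := hS.commutator_normal P hP
  have hEP := hS.commutator_commutator hp hpY P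
  set E₁ : Subgroup H₁ := ⁅L₁, (P : Subgroup H₁)⁆ with hE₁
  have hEmap : E₁.map H₁.subtype = ⁅L, Subgroup.zpowers y⁆ := by
    rw [hE₁, Subgroup.map_commutator, hPY, hL₁, hY₁, Subgroup.subgroupOf_map_subtype, Subgroup.subgroupOf_map_subtype,
      inf_eq_left.2 (le_sup_left : L ≤ H₁), inf_eq_left.2 hYle]
  -- `E` is not contained in `S`
  have hES : ¬ ⁅L, Subgroup.zpowers y⁆ ≤ D.S := fun h => hbad (D.isNilpotent_of_le _ h)
  have hEA : ⁅L, Subgroup.zpowers y⁆ ≤ Subgroup.centralizer (D.A : Set H) := D.commutator_le _ _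
  have hELL : ⁅L, Subgroup.zpowers y⁆ ≤ L := Subgroup.commutator_le_left L (Subgroup.zpowers y)
  obtain ⟨q, hqQ, hq⟩ : ∃ q ∈ Q, ∃ x ∈ ⁅L, Subgroup.zpowers y⁆, ¬ D.Triv q x := by
    by_contra hcon
    push Not at hcon
    exact hES fun x hx => mem_of_triv D hD (hEA hx) fun q hq => hcon q hq x hx
  have hqp : q ≠ p := fun h => hpQ (h ▸ hqQ)
  have hqq := hD.prime q hqQ
  refine ⟨q, hqQ, hqp, ?_⟩
  let φ' : H₁ →* MulAut (XQ D q) := (rho D q).comp H₁.subtype
  let φ : H₁ →* φ'.range := φ'.rangeRestrict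
  have hφ : Function.Surjective φ := φ'.rangeRestrict_surjective
  have hGs : Group.IsSolvable φ'.range := Group.isSolvable_of_surjective hφ
  have hfin : Finite φ'.range := Finite.of_surjective φ hφ
  have hEn' : (E₁.map φ).Normal := hEn.map φ hφ
  have hEP' : ⁅E₁.map φ, (P : Subgroup H₁).map φ⁆ = E₁.map φ := by
    rw [← Subgroup.map_commutator, hEP]
  have hE' : E₁.map φ ≠ ⊥ := by
    intro h
    obtain ⟨x, hx, hxq⟩ := hq
    apply hxq
    rw [← hEmap] at hx
    obtain ⟨x', hx', rfl⟩ := hx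
    have h1 : φ x' ∈ E₁.map φ := Subgroup.mem_map_of_mem φ hx'
    rw [h, Subgroup.mem_bot] at h1
    exact (rho_eq_one_iff D _).1 (congrArg Subtype.val h1)
  obtain ⟨r, hr, hrP⟩ := exists_pCore (E₁.map φ) ((P : Subgroup H₁).map φ) hEn' hEP' hE'
  have hrf : Fact r.Prime := ⟨hr⟩
  set R : Subgroup φ'.range := E₁.map φ ⊓ pCore r φ'.range with hR
  have hRn : R.Normal := inferInstance
  have hRr : IsPGroup r R := (pCore_isPGroup (G := φ'.range) r).to_le inf_le_right
  have hRle : R.map φ'.range.subtype ≤ (L ⊓ Subgroup.centralizer (D.A : Set H)).map (rho D q) := by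
    rintro _ ⟨_, ⟨⟨x, hx, rfl⟩, -⟩, rfl⟩
    have h1 : (x : H) ∈ ⁅L, Subgroup.zpowers y⁆ := by
      rw [← hEmap]
      exact ⟨x, hx, rfl⟩
    exact ⟨x, ⟨hELL h1, hEA h1⟩, rfl⟩
  have hRmr : IsPGroup r (R.map φ'.range.subtype) := hRr.map _
  have hRbot : R ≠ ⊥ := by
    intro h
    rw [h] at hrP
    exact hrP (fun x _ => by
      rw [Subgroup.mem_centralizer_iff]
      intro y hy
      rw [Subgroup.coe_bot, Set.mem_singleton_iff] at hy
      rw [hy, one_mul, mul_one])
  have hRbot' : R.map φ'.range.subtype ≠ ⊥ := by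
    intro h
    exact hRbot ((Subgroup.map_eq_bot_iff_of_injective _ φ'.range.subtype_injective).1 h)
  refine ⟨r, hr, ?_, ?_, R.map φ'.range.subtype, hRmr, hRle, ?_, ?_⟩
  · rintro rfl
    apply hRbot'
    rw [eq_bot_iff]
    intro x hx
    obtain ⟨l, hl, rfl⟩ := hRle hx
    obtain ⟨k, hk⟩ := hRmr ⟨_, hx⟩
    have h1 : orderOf (rho D q l) ∣ r ^ k := orderOf_dvd_of_pow_eq_one (congrArg Subtype.val hk)
    have h2 : orderOf (rho D q l) ∣ Nat.card L := (orderOf_map_dvd _ l).trans (Subgroup.orderOf_dvd_natCard L hl.1)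
    rw [Subgroup.mem_bot, ← orderOf_eq_one_iff]
    exact Nat.eq_one_of_dvd_coprimes (Nat.Coprime.pow_left k ((Nat.Prime.coprime_iff_not_dvd hr).2 hL.cop)) h1 h2
  · rintro rfl
    apply hRbot'
    refine no_q D hqq hLn _ (hRle.trans (Subgroup.map_mono inf_le_left)) ?_ hRmr
    rintro l hl _ ⟨x, hx, rfl⟩
    have hlH : l ∈ H₁ := (le_sup_left : L ≤ H₁) hl
    exact ⟨_, hRn.conj_mem x hx (φ ⟨l, hlH⟩), rfl⟩
  · rintro _ ⟨x, hx, rfl⟩
    have hyH : y ∈ H₁ := hYle (Subgroup.mem_zpowers y)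
    exact ⟨_, hRn.conj_mem x hx (φ ⟨y, hyH⟩), rfl⟩
  · by_contra hcon
    push Not at hcon
    apply hrP
    rintro _ ⟨x, hx, rfl⟩
    have hyH : y ∈ H₁ := hYle (Subgroup.mem_zpowers y)
    have hx' : x ∈ Y₁ := by rw [← hPY]; exact hx
    obtain ⟨i, hi⟩ := Subgroup.mem_zpowers_iff.1 (Subgroup.mem_subgroupOf.1 hx')
    have hxi : x = (⟨y, hyH⟩ : H₁) ^ i := Subtype.ext hi.symm
    rw [Subgroup.mem_centralizer_iff]
    intro z hz
    have h1 : Commute (φ ⟨y, hyH⟩) z := Subtype.ext (hcon _ ⟨z, hz, rfl⟩)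
    have h2 : Commute (φ ((⟨y, hyH⟩ : H₁) ^ i)) z := by
      rw [map_zpow]
      exact h1.zpow_left i
    rw [hxi]
    exact h2.eq.symm

end

end Cfsg.Agent.H527.RC.Pr5

/-!
## S4191, primitive linear groups: fixed points of elements of prime order
-/

namespace Cfsg.Agent.H527.RC.Pr5

open scoped Pointwise commutatorElement
open Cfsg Cfsg.Agent.Lib.Cores
open Cfsg.Agent.H527.RC Cfsg.Agent.H822.Cls Cfsg.Agent.H668.Dim

universe u

/-- a permutation of order dividing `p` -/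
theorem card_fix_modEq {α : Type*} [Finite α] {p : ℕ} (hp : p.Prime) (f : α → α) (hf : f^[p] = id) :
    Nat.card α ≡ Nat.card {a : α // f a = a} [MOD p] := by
  classical
  have : Fact p.Prime := ⟨hp⟩
  have := Fintype.ofFinite α
  have h1 : (show Function.End α from f) ^ p ^ 1 = 1 := by
    rw [pow_one]
    have h2 : ∀ n : ℕ, ((show Function.End α from f) ^ n) = f^[n] := by
      intro n
      induction n with
      | zero => rfl
      | succ n ih =>
        rw [pow_succ, ih]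
        rfl
    rw [h2, hf]
    rfl
  have h3 := Equiv.Perm.card_fixedPoints_modEq h1
  rw [Nat.card_eq_fintype_card, Nat.card_eq_fintype_card]
  exact h3

section

variable {K X : Type*} [Group K] [AddCommGroup X] [DistribMulAction K X]

/-- fixed points -/
def fixS (X : Type*) [AddCommGroup X] [DistribMulAction K X] (z : K) : AddSubgroup X where
  carrier := {w | z • w = w}
  zero_mem' := smul_zero z
  add_mem' := by
    intro a b ha hb
    have ha' : z • a = a := ha
    have hb' : z • b = b := hb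
    show z • (a + b) = a + b
    rw [smul_add, ha', hb']
  neg_mem' := by
    intro a ha
    have ha' : z • a = a := ha
    show z • (-a) = -a
    rw [smul_neg, ha']

theorem mem_fixS {z : K} {w : X} : w ∈ fixS X z ↔ z • w = w := Iff.rfl

theorem card_modEq [Finite X] {p : ℕ} (hp : p.Prime) {z : K} (hz : z ^ p = 1) (Y : AddSubgroup X)
    (hY : ∀ w ∈ Y, z • w ∈ Y) : Nat.card Y ≡ Nat.card (fixS X z ⊓ Y : AddSubgroup X) [MOD p] := by
  have h1 := card_fix_modEq hp (fun w : Y => (⟨z • (w : X), hY w w.2⟩ : Y)) (by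
    funext w
    have h2 : ∀ n : ℕ, (((fun w : Y => (⟨z • (w : X), hY w w.2⟩ : Y))^[n] w : Y) : X) = z ^ n • (w : X) := by
      intro n
      induction n with
      | zero => simp
      | succ n ih =>
        rw [Function.iterate_succ_apply', pow_succ', mul_smul, ← ih]
    refine Subtype.ext ?_
    rw [h2, hz, one_smul]
    rfl)
  rw [Nat.card_congr (show (fixS X z ⊓ Y : AddSubgroup X) ≃ {a : Y // (⟨z • (a : X), hY a a.2⟩ : Y) = a} from
    { toFun := fun w => ⟨⟨w.1, w.2.2⟩, Subtype.ext w.2.1⟩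
      invFun := fun w => ⟨w.1.1, congrArg Subtype.val w.2, w.1.2⟩
      left_inv := fun w => rfl
      right_inv := fun w => rfl })]
  exact h1

/-- powers of order `p` -/
theorem exists_order {G : Type*} [Group G] {p : ℕ} (hp : p.Prime) {y : G} (hy : PEl p y) (hy1 : y ≠ 1) :
    ∃ n : ℕ, (y ^ n) ^ p = 1 ∧ y ^ n ≠ 1 := by
  obtain ⟨k, hk⟩ := hy
  obtain ⟨j, -, hj⟩ := (Nat.dvd_prime_pow hp).1 (orderOf_dvd_of_pow_eq_one hk)
  rcases Nat.eq_zero_or_pos j with rfl | hj0
  · rw [pow_zero, orderOf_eq_one_iff] at hj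
    exact absurd hj hy1
  · refine ⟨p ^ (j - 1), ?_, ?_⟩
    · rw [← pow_mul, ← pow_succ, Nat.sub_add_cancel hj0, ← hj, pow_orderOf_eq_one]
    · intro h
      have h1 := orderOf_dvd_of_pow_eq_one h
      rw [hj] at h1
      have h2 := Nat.le_of_dvd (pow_pos hp.pos _) h1
      have h3 := (Nat.pow_le_pow_iff_right hp.one_lt).1 h2
      omega

/-- invariant Sylow subgroups -/
theorem exists_inv_sylow [Finite K] {p s : ℕ} (hp : p.Prime) (hs : s.Prime) {L : Subgroup K} (hL : LP p L) {y : K}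
    (hy : PEl p y) : ∃ T : Subgroup K, T ≤ L ∧ IsPGroup s T ∧ (s ∣ Nat.card L → T ≠ ⊥) ∧
      ∀ x ∈ T, y * x * y⁻¹ ∈ T := by
  have := Fact.mk hp
  have := Fact.mk hs
  have hLn := hL.normal
  let φ : Subgroup.zpowers y →* MulAut L := (MulAut.conjNormal (H := L)).comp (Subgroup.zpowers y).subtype
  letI : MulAction (Subgroup.zpowers y) (Sylow s L) := MulAction.compHom _ φ
  have hE : IsPGroup p (Subgroup.zpowers y) := pel_isPGroup hy
  have h1 := hE.card_modEq_card_fixedPoints (Sylow s L)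
  have h2 : ¬ p ∣ Nat.card (Sylow s L) := by
    intro h
    obtain ⟨P⟩ : Nonempty (Sylow s L) := inferInstance
    exact hL.cop (h.trans (P.card_dvd_index.trans P.index_dvd_card))
  have h3 : Nonempty (MulAction.fixedPoints (Subgroup.zpowers y) (Sylow s L)) := by
    by_contra h
    rw [not_nonempty_iff] at h
    have h4 : Nat.card (MulAction.fixedPoints (Subgroup.zpowers y) (Sylow s L)) = 0 := Nat.card_of_isEmpty
    rw [h4] at h1
    exact h2 ((Nat.modEq_zero_iff_dvd).1 h1)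
  obtain ⟨P, hP⟩ := h3
  refine ⟨(P : Subgroup L).map L.subtype, ?_, P.isPGroup'.map _, ?_, ?_⟩
  · rintro _ ⟨q, -, rfl⟩; exact q.2
  · intro hk h
    have h5 : (P : Subgroup L) = ⊥ := (Subgroup.map_eq_bot_iff_of_injective _ L.subtype_injective).1 h
    have h6 := P.dvd_card_of_dvd_card hk
    rw [h5, Subgroup.card_bot] at h6
    exact hs.one_lt.ne' (Nat.dvd_one.1 h6)
  · rintro _ ⟨q, hq, rfl⟩
    have h4 := hP ⟨y, Subgroup.mem_zpowers y⟩
    have h5 : φ ⟨y, Subgroup.mem_zpowers y⟩ • P = P := h4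
    have h6 : φ ⟨y, Subgroup.mem_zpowers y⟩ q ∈ (φ ⟨y, Subgroup.mem_zpowers y⟩ • P : Sylow s L) :=
      ⟨q, hq, rfl⟩
    rw [h5] at h6
    exact ⟨_, h6, rfl⟩

end

end Cfsg.Agent.H527.RC.Pr5

/-!
## S4191, primitive linear groups: the action of an element on `S / A`
-/

namespace Cfsg.Agent.H527.RC.Pr5

open scoped Pointwise commutatorElement
open Cfsg Cfsg.Agent.Lib.Cores
open Cfsg.Agent.H527.RC Cfsg.Agent.H822.Cls Cfsg.Agent.H668.Dim

universe u

/-- the number of automorphisms of a finite field -/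
theorem card_aut_dvd (F : Type*) [Field F] [Finite F] : Nat.card (F ≃+* F) ∣ Nat.totient (Nat.card F - 1) := by
  let f : (F ≃+* F) →* MulAut Fˣ :=
    { toFun := fun σ => Units.mapEquiv σ.toMulEquiv
      map_one' := by ext x; rfl
      map_mul' := fun σ τ => by ext x; rfl }
  have hf : Function.Injective f := by
    intro σ τ h
    ext x
    by_cases hx : x = 0
    · rw [hx, map_zero, map_zero]
    · have h1 : f σ (Units.mk0 x hx) = f τ (Units.mk0 x hx) := by rw [h]
      exact congrArg Units.val h1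
  have h1 := Subgroup.card_dvd_of_injective f hf
  rwa [IsCyclic.card_mulAut, Nat.card_units] at h1

section

variable {H W F : Type u} [Group H] [Finite H] [AddCommGroup W] [Finite W] [Nontrivial W]
  [DistribMulAction H W] [Field F] [Finite F] [Module F W] (D : Prim H W F)

theorem index_cent_dvd : (Subgroup.centralizer (D.A : Set H)).index ∣ Nat.totient (Nat.card F - 1) := by
  rw [← D.σ_ker, Subgroup.index_ker]
  exact (Subgroup.card_subgroup_dvd_card _).trans (card_aut_dvd F)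

theorem mem_cent_of_pel {p : ℕ} (hp : p.Prime) {y : H} (hy : PEl p y) (h : ¬ p ∣ Nat.totient (Nat.card F - 1)) :
    y ∈ Subgroup.centralizer (D.A : Set H) := by
  rw [← D.σ_ker, MonoidHom.mem_ker, ← orderOf_eq_one_iff]
  obtain ⟨k, hk⟩ := hy
  have hfin : Finite (F ≃+* F) := Finite.of_injective (fun σ : F ≃+* F => (σ : F → F)) DFunLike.coe_injective
  refine Nat.eq_one_of_dvd_coprimes (a := p ^ k) (b := Nat.totient (Nat.card F - 1))
    (Nat.Coprime.pow_left k ((Nat.Prime.coprime_iff_not_dvd hp).2 h)) ?_ ?_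
  · refine orderOf_dvd_of_pow_eq_one ?_
    rw [← map_pow, hk, map_one]
  · exact (orderOf_dvd_natCard _).trans (card_aut_dvd F)

/-- `S / A` -/
def SQ : Subgroup (H ⧸ D.A) := D.S.map (QuotientGroup.mk' D.A)

instance SQ_normal : (SQ D).Normal := D.S_normal.map _ (QuotientGroup.mk'_surjective _)

/-- the action of `H` on `S / A` -/
def rhoS : H →* MulAut (SQ D) := (MulAut.conjNormal).comp (QuotientGroup.mk' D.A)

theorem card_SQ : Nat.card (SQ D) = D.A.relIndex D.S := by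
  rw [SQ, ← Subgroup.relIndex_ker, QuotientGroup.ker_mk']

/-- the class of an element -/
def clS {s : H} (hs : s ∈ D.S) : SQ D := ⟨QuotientGroup.mk' D.A s, Subgroup.mem_map_of_mem (QuotientGroup.mk' D.A) hs⟩

theorem exists_clS (x : SQ D) : ∃ (s : H) (hs : s ∈ D.S), x = clS D hs := by
  obtain ⟨_, s, hs, rfl⟩ := x
  exact ⟨s, hs, rfl⟩

theorem rhoS_clS (g : H) {s : H} (hs : s ∈ D.S) : rhoS D g (clS D hs) = clS D (D.S_normal.conj_mem s hs g) := by
  refine Subtype.ext ?_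
  show ((MulAut.conjNormal (QuotientGroup.mk' D.A g)) (clS D hs) : H ⧸ D.A) = _
  rw [MulAut.conjNormal_apply]
  rfl

theorem clS_eq_iff {s t : H} (hs : s ∈ D.S) (ht : t ∈ D.S) : clS D hs = clS D ht ↔ t * s⁻¹ ∈ D.A := by
  rw [← Subtype.val_inj]
  have h1 : ((clS D hs : SQ D) : H ⧸ D.A) = ((s : H) : H ⧸ D.A) := rfl
  have h2 : ((clS D ht : SQ D) : H ⧸ D.A) = ((t : H) : H ⧸ D.A) := rfl
  rw [h1, h2, QuotientGroup.eq, D.A_normal.mem_comm_iff]

theorem rhoS_fix_iff (g : H) {s : H} (hs : s ∈ D.S) : rhoS D g (clS D hs) = clS D hs ↔ g * s * g⁻¹ * s⁻¹ ∈ D.A := by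
  rw [rhoS_clS, eq_comm, clS_eq_iff]

theorem rhoS_eq_one_iff (g : H) : rhoS D g = 1 ↔ ∀ s ∈ D.S, g * s * g⁻¹ * s⁻¹ ∈ D.A := by
  constructor
  · intro h s hs
    rw [← rhoS_fix_iff D g hs, h, MulAut.one_apply]
  · intro h
    ext x
    obtain ⟨s, hs, rfl⟩ := exists_clS D x
    rw [MulAut.one_apply, (rhoS_fix_iff D g hs).2 (h s hs)]

/-- the elements of `S` centralised by `z` modulo `A` -/
def TS (z : H) : Subgroup H where
  carrier := {s | s ∈ D.S ∧ z * s * z⁻¹ * s⁻¹ ∈ D.A}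
  one_mem' := ⟨D.S.one_mem, by simp⟩
  mul_mem' := by
    rintro a b ⟨ha, ha'⟩ ⟨hb, hb'⟩
    refine ⟨D.S.mul_mem ha hb, ?_⟩
    have h1 : z * (a * b) * z⁻¹ * (a * b)⁻¹ = (z * a * z⁻¹ * a⁻¹) * (a * (z * b * z⁻¹ * b⁻¹) * a⁻¹) := by group
    rw [h1]
    exact D.A.mul_mem ha' (D.A_normal.conj_mem _ hb' a)
  inv_mem' := by
    rintro a ⟨ha, ha'⟩
    refine ⟨D.S.inv_mem ha, ?_⟩
    have h1 : z * a⁻¹ * z⁻¹ * a⁻¹⁻¹ = a⁻¹ * (a * (z * a⁻¹ * z⁻¹)) * a⁻¹⁻¹ := by group
    rw [h1]
    refine D.A_normal.conj_mem _ ?_ _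
    have h2 : a * (z * a⁻¹ * z⁻¹) = (z * a * z⁻¹ * a⁻¹)⁻¹ := by group
    rw [h2]
    exact D.A.inv_mem ha'

theorem mem_TS {z s : H} : s ∈ TS D z ↔ s ∈ D.S ∧ z * s * z⁻¹ * s⁻¹ ∈ D.A := Iff.rfl

theorem A_le_TS (z : H) : D.A ≤ TS D z := by
  intro a ha
  exact ⟨D.A_le ha, D.A.mul_mem (D.A_normal.conj_mem a ha z) (D.A.inv_mem ha)⟩

theorem TS_le (z : H) : TS D z ≤ D.S := fun _ h => h.1

theorem TS_dvd (z : H) : D.A.relIndex (TS D z) ∣ D.A.relIndex D.S :=
  ⟨_, (Subgroup.relIndex_mul_relIndex _ _ _ (A_le_TS D z) (TS_le D z)).symm⟩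

theorem card_fixed (z : H) : Nat.card {x : SQ D // rhoS D z x = x} = D.A.relIndex (TS D z) := by
  have h1 : D.A.relIndex (TS D z) = Nat.card ((TS D z).map (QuotientGroup.mk' D.A)) := by
    rw [← Subgroup.relIndex_ker, QuotientGroup.ker_mk']
  rw [h1]
  refine Nat.card_congr
    { toFun := fun x => ⟨x.1.1, ?_⟩
      invFun := fun x => ⟨⟨x.1, ?_⟩, ?_⟩
      left_inv := fun x => rfl
      right_inv := fun x => rfl }
  · obtain ⟨x, hx⟩ := x
    obtain ⟨s, hs, rfl⟩ := exists_clS D x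
    exact ⟨s, ⟨hs, (rhoS_fix_iff D z hs).1 hx⟩, rfl⟩
  · obtain ⟨_, s, hs, rfl⟩ := x
    exact ⟨s, hs.1, rfl⟩
  · obtain ⟨_, s, hs, rfl⟩ := x
    exact (rhoS_fix_iff D z hs.1).2 hs.2

theorem iter_mulAut {G : Type*} [Group G] (f : MulAut G) (n : ℕ) : (fun x => f x)^[n] = fun x => (f ^ n) x := by
  induction n with
  | zero => rfl
  | succ n ih =>
    rw [Function.iterate_succ', ih, pow_succ']
    rfl

theorem TS_modEq {p : ℕ} (hp : p.Prime) {z : H} (hz : z ^ p = 1) :
    D.A.relIndex D.S ≡ D.A.relIndex (TS D z) [MOD p] := by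
  rw [← card_SQ, ← card_fixed]
  refine card_fix_modEq hp (fun x => rhoS D z x) ?_
  rw [iter_mulAut, ← map_pow, hz, map_one]
  rfl

theorem TS_eq {z : H} (hz : z ∈ Subgroup.centralizer (D.A : Set H)) (h : TS D z = D.S) : z ∈ D.S := by
  refine D.dual z hz fun s hs => ?_
  rw [← h] at hs
  exact hs.2

/-- elements acting nontrivially -/
theorem TS_lt {z : H} (hz : z ∈ Subgroup.centralizer (D.A : Set H)) (h : z ∉ D.S) :
    D.A.relIndex (TS D z) < D.A.relIndex D.S := by
  have h1 := Subgroup.relIndex_mul_relIndex _ _ _ (A_le_TS D z) (TS_le D z)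
  have h2 : D.A.relIndex D.S ≠ 0 := Subgroup.FiniteIndex.index_ne_zero
  refine lt_of_le_of_ne (Nat.le_of_dvd (Nat.pos_of_ne_zero h2) (TS_dvd D z)) ?_
  intro h3
  apply h
  apply TS_eq D hz
  apply le_antisymm (TS_le D z)
  rw [← Subgroup.relIndex_eq_one]
  rw [h3] at h1
  exact Nat.eq_of_mul_eq_mul_left (Nat.pos_of_ne_zero h2) (by rw [h1, mul_one])

/-- elements of order a power of a prime `p > |X|` act trivially on `X` -/
theorem eq_one_of_small {G : Type*} [Group G] [Finite G] {p : ℕ} (hp : p.Prime) (hc : Nat.card G < p) (f : MulAut G)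
    {k : ℕ} (hf : f ^ p ^ k = 1) : f = 1 := by
  classical
  have := Fintype.ofFinite G
  let g : MulAut G →* Equiv.Perm G := MulAut.toPerm G
  have hg : Function.Injective g := fun a b h => by
    ext x
    exact DFunLike.congr_fun h x
  apply hg
  rw [map_one, ← orderOf_eq_one_iff]
  refine Nat.eq_one_of_dvd_coprimes (a := p ^ k) (b := (Nat.card G).factorial) ?_ ?_ ?_
  · refine Nat.Coprime.pow_left k ((Nat.Prime.coprime_iff_not_dvd hp).2 ?_)
    rw [hp.dvd_factorial]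
    omega
  · refine orderOf_dvd_of_pow_eq_one ?_
    rw [← map_pow, hf, map_one]
  · rw [Nat.card_eq_fintype_card, ← Fintype.card_perm]
    exact orderOf_dvd_card

/-- a `p`-element of `C(A)` lies in `S` if `|S / A| < p` -/
theorem mem_S_of_small {p : ℕ} (hp : p.Prime) (hc : D.A.relIndex D.S < p) {y : H} (hy : PEl p y)
    (hyA : y ∈ Subgroup.centralizer (D.A : Set H)) : y ∈ D.S := by
  obtain ⟨k, hk⟩ := hy
  refine D.dual y hyA ((rhoS_eq_one_iff D y).1 ?_)
  refine eq_one_of_small hp (by rw [card_SQ]; exact hc) _ (k := k) ?_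
  rw [← map_pow, hk, map_one]

/-- `p`-elements of `S` lie in `A` if `p` does not divide `|S / A|` -/
theorem mem_A_of_cop {p : ℕ} (hp : p.Prime) (hc : ¬ p ∣ D.A.relIndex D.S) {y : H} (hy : PEl p y) (hyS : y ∈ D.S) :
    y ∈ D.A := by
  obtain ⟨k, hk⟩ := hy
  have h1 : (clS D hyS) = 1 := by
    rw [← orderOf_eq_one_iff]
    refine Nat.eq_one_of_dvd_coprimes (a := p ^ k) (b := Nat.card (SQ D)) ?_ ?_ (orderOf_dvd_natCard _)
    · rw [card_SQ]
      exact Nat.Coprime.pow_left k ((Nat.Prime.coprime_iff_not_dvd hp).2 hc)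
    · refine orderOf_dvd_of_pow_eq_one (Subtype.ext ?_)
      show (QuotientGroup.mk' D.A y) ^ p ^ k = 1
      rw [← map_pow, hk, map_one]
  exact (QuotientGroup.eq_one_iff y).1 (congrArg Subtype.val h1)

end

end Cfsg.Agent.H527.RC.Pr5

/-!
## S4191, primitive linear groups: `5`-nilpotent groups acting on `3 ^ 4`
-/

namespace Cfsg.Agent.H527.RC.Pr5

open scoped Pointwise commutatorElement
open Cfsg Cfsg.Agent.Lib.Cores
open Cfsg.Agent.H527.RC Cfsg.Agent.H822.Cls Cfsg.Agent.H668.Dim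

universe u

section

variable {K X : Type u} [Group K] [Finite K] [AddCommGroup X] [Finite X] [DistribMulAction K X]

theorem dvd81 {n : ℕ} (h : n ∣ 81) : n = 1 ∨ n = 3 ∨ n = 9 ∨ n = 27 ∨ n = 81 := by
  obtain ⟨j, hj, rfl⟩ := (Nat.dvd_prime_pow Nat.prime_three (m := 4)).1 (by norm_num; exact h)
  interval_cases j <;> simp

theorem fix_bot (hcard : Nat.card X = 81) (hfaith : ∀ g : K, (∀ x : X, g • x = x) → g = 1) {z : K} (hz : z ^ 5 = 1)
    (hz1 : z ≠ 1) : fixS X z = ⊥ := by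
  have h1 := card_modEq Nat.prime_five hz (⊤ : AddSubgroup X) (fun _ _ => trivial)
  rw [inf_top_eq, AddSubgroup.card_top, hcard] at h1
  have h3 : Nat.card (fixS X z) ∣ 81 := by
    rw [← hcard]
    exact AddSubgroup.card_addSubgroup_dvd_card _
  rcases dvd81 h3 with h | h | h | h | h
  · exact AddSubgroup.card_eq_one.1 h
  · rw [h] at h1; exact absurd h1 (by decide)
  · rw [h] at h1; exact absurd h1 (by decide)
  · rw [h] at h1; exact absurd h1 (by decide)
  · exfalso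
    apply hz1
    apply hfaith
    intro x
    have h4 : fixS X z = ⊤ := AddSubgroup.eq_top_of_card_eq _ (by rw [h, hcard])
    have h5 : x ∈ fixS X z := by rw [h4]; trivial
    exact h5

theorem irr_z (hcard : Nat.card X = 81) (hfaith : ∀ g : K, (∀ x : X, g • x = x) → g = 1) {z : K} (hz : z ^ 5 = 1)
    (hz1 : z ≠ 1) (Y : AddSubgroup X) (hY : ∀ w ∈ Y, z • w ∈ Y) : Y = ⊥ ∨ Y = ⊤ := by
  have h1 := card_modEq Nat.prime_five hz Y hY
  rw [fix_bot hcard hfaith hz hz1, bot_inf_eq, AddSubgroup.card_bot] at h1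
  have h3 : Nat.card Y ∣ 81 := by
    rw [← hcard]
    exact AddSubgroup.card_addSubgroup_dvd_card _
  rcases dvd81 h3 with h | h | h | h | h
  · exact Or.inl (AddSubgroup.card_eq_one.1 h)
  · rw [h] at h1; exact absurd h1 (by decide)
  · rw [h] at h1; exact absurd h1 (by decide)
  · rw [h] at h1; exact absurd h1 (by decide)
  · exact Or.inr (AddSubgroup.eq_top_of_card_eq _ (by rw [h, hcard]))

/-- no system of imprimitivity -/
theorem not_imprim (hcard : Nat.card X = 81) (hfaith : ∀ g : K, (∀ x : X, g • x = x) → g = 1) {z : K}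
    (hz : z ^ 5 = 1) (hz1 : z ≠ 1) : ¬ Imprim K X := by
  rintro ⟨𝒟, hfin, h2, hne, hinv, hind, hsup⟩
  -- every block is invariant
  have key : ∀ D ∈ 𝒟, z • D = D := by
    intro D hD
    by_contra hcon
    obtain ⟨d, hd, hd0⟩ := (AddSubgroup.bot_or_exists_ne_zero D).resolve_left (hne D hD)
    -- the other translates are different from `D`
    have hz' : ∀ i : ℕ, 1 ≤ i → i ≤ 4 → z ^ i • D ≠ D := by
      intro i h1 h4 h
      apply hcon
      have h5 : ∀ n : ℕ, z ^ (i * n) • D = D := by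
        intro n
        induction n with
        | zero => simp
        | succ n ih => rw [Nat.mul_succ, pow_add, mul_smul, h, ih]
      obtain ⟨n, m, hn⟩ : ∃ n m : ℕ, i * n = 5 * m + 1 := by
        interval_cases i
        · exact ⟨1, 0, by norm_num⟩
        · exact ⟨3, 1, by norm_num⟩
        · exact ⟨2, 1, by norm_num⟩
        · exact ⟨4, 3, by norm_num⟩
      have h6 := h5 n
      rwa [hn, pow_add, pow_mul, hz, one_pow, one_mul, pow_one] at h6
    have hmem : ∀ i : ℕ, 1 ≤ i → i ≤ 4 → z ^ i • d ∈ sSup (𝒟 \ {D}) := by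
      intro i h1 h4
      have h5 : z ^ i • D ≤ sSup (𝒟 \ {D}) := le_sSup ⟨hinv _ D hD, hz' i h1 h4⟩
      exact h5 (AddSubgroup.smul_mem_pointwise_smul _ _ _ hd)
    have hsum : z • (d + z ^ 1 • d + z ^ 2 • d + z ^ 3 • d + z ^ 4 • d) =
        d + z ^ 1 • d + z ^ 2 • d + z ^ 3 • d + z ^ 4 • d := by
      simp only [smul_add, smul_smul, ← pow_succ']
      have h5 : z ^ (4 + 1) = 1 := hz
      rw [h5, one_smul, pow_one]
      norm_num
      abel
    have h0 : d + z ^ 1 • d + z ^ 2 • d + z ^ 3 • d + z ^ 4 • d = 0 := by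
      have h5 : d + z ^ 1 • d + z ^ 2 • d + z ^ 3 • d + z ^ 4 • d ∈ fixS X z := hsum
      rw [fix_bot hcard hfaith hz hz1] at h5
      exact h5
    have h6 : d = -(z ^ 1 • d + z ^ 2 • d + z ^ 3 • d + z ^ 4 • d) := by
      rw [eq_neg_iff_add_eq_zero, ← h0]
      abel
    have h7 : d ∈ sSup (𝒟 \ {D}) := by
      rw [h6]
      exact neg_mem (add_mem (add_mem (add_mem (hmem 1 (by norm_num) (by norm_num)) (hmem 2 (by norm_num) (by norm_num)))
        (hmem 3 (by norm_num) (by norm_num))) (hmem 4 (by norm_num) (by norm_num)))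
    have h8 := hind hD
    rw [disjoint_iff] at h8
    have h9 : d ∈ D ⊓ sSup (𝒟 \ {D}) := ⟨hd, h7⟩
    rw [h8] at h9
    exact hd0 h9
  have hone : ∀ D ∈ 𝒟, D = ⊤ := by
    intro D hD
    refine (irr_z hcard hfaith hz hz1 D ?_).resolve_left (hne D hD)
    intro w hw
    have h1 := AddSubgroup.smul_mem_pointwise_smul w z D hw
    rwa [key D hD] at h1
  have h3 : 𝒟 ⊆ {⊤} := fun D hD => hone D hD
  have h4 := Set.ncard_le_ncard h3 (Set.finite_singleton _)
  rw [Set.ncard_singleton] at h4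
  omega

/-- `L` is a `2`-group -/
theorem L_two (hcard : Nat.card X = 81) (hfaith : ∀ g : K, (∀ x : X, g • x = x) → g = 1) {L : Subgroup K}
    (hL : LP 5 L) {y : K} (hy : PEl 5 y) (hy1 : y ≠ 1) : IsPGroup 2 L := by
  obtain ⟨n, hz, hz1⟩ := exists_order Nat.prime_five hy hy1
  have hprime : ∀ s : ℕ, s.Prime → s ∣ Nat.card L → s = 2 := by
    intro s hs hsL
    by_contra hs2
    have hsf : Fact s.Prime := ⟨hs⟩
    obtain ⟨T, hTL, hTs, hT1, hTy⟩ := exists_inv_sylow Nat.prime_five hs hL hy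
    have hT0 := hT1 hsL
    apply hT0
    -- the fixed points of `T`
    let Y : AddSubgroup X := ⨅ t : T, fixS X (t : K)
    have hYmem : ∀ w, w ∈ Y ↔ ∀ t ∈ T, t • w = w := by
      intro w
      rw [AddSubgroup.mem_iInf]
      exact ⟨fun h t ht => h ⟨t, ht⟩, fun h t => h t.1 t.2⟩
    have hYy : ∀ w ∈ Y, y • w ∈ Y := by
      intro w hw
      rw [hYmem] at hw ⊢
      intro t ht
      have h1 : y⁻¹ * t * y ∈ T := by
        -- the order of `y` is finite
        have h2 : ∀ k : ℕ, y ^ k * t * (y ^ k)⁻¹ ∈ T := by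
          intro k
          induction k with
          | zero => simpa using ht
          | succ k ih =>
            have h3 := hTy _ ih
            have h4 : y * (y ^ k * t * (y ^ k)⁻¹) * y⁻¹ = y ^ (k + 1) * t * (y ^ (k + 1))⁻¹ := by
              rw [pow_succ']; group
            rwa [h4] at h3
        have h5 := h2 (orderOf y - 1)
        have h6 : y ^ (orderOf y - 1) = y⁻¹ := by
          rw [eq_inv_iff_mul_eq_one, ← pow_succ, Nat.sub_add_cancel (orderOf_pos y), pow_orderOf_eq_one]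
        rwa [h6, inv_inv] at h5
      have h2 := hw _ h1
      have h3 : t • y • w = y • (y⁻¹ * t * y) • w := by
        rw [smul_smul, smul_smul]
        congr 1
        group
      rw [h3, h2]
    have hYn : ∀ w ∈ Y, y ^ n • w ∈ Y := by
      intro w hw
      induction n with
      | zero => simpa using hw
      | succ k ih =>
        have h2 : ∀ k : ℕ, y ^ k • w ∈ Y := by
          intro k
          induction k with
          | zero => simpa using hw
          | succ k ih => rw [pow_succ', mul_smul]; exact hYy _ ih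
        exact h2 _
    rcases irr_z hcard hfaith hz hz1 Y hYn with h | h
    · exfalso
      -- `80 ≡ 0 mod s`
      have h1 := hTs.card_modEq_card_fixedPoints X
      rw [hcard] at h1
      have h2 : Nat.card (MulAction.fixedPoints T X) = 1 := by
        have h3 : Nat.card (MulAction.fixedPoints T X) = Nat.card Y := by
          refine Nat.card_congr (Equiv.subtypeEquivRight fun w => ?_)
          rw [hYmem]
          exact ⟨fun h t ht => h ⟨t, ht⟩, fun h t => h t.1 t.2⟩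
        rw [h3, h, AddSubgroup.card_bot]
      rw [h2] at h1
      have h4 : s ∣ 80 := by
        have h5 := (Nat.modEq_iff_dvd' (by norm_num : 1 ≤ 81)).1 h1.symm
        exact h5
      have h6 : (80 : ℕ) = 2 ^ 4 * 5 := by norm_num
      rw [h6, hs.dvd_mul] at h4
      rcases h4 with h4 | h4
      · exact hs2 ((Nat.prime_dvd_prime_iff_eq hs Nat.prime_two).1 (hs.dvd_of_dvd_pow h4))
      · have h7 := (Nat.prime_dvd_prime_iff_eq hs Nat.prime_five).1 h4
        rw [h7] at hsL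
        exact hL.cop hsL
    · rw [eq_bot_iff]
      intro t ht
      rw [Subgroup.mem_bot]
      apply hfaith
      intro x
      have h1 : x ∈ Y := by rw [h]; trivial
      exact (hYmem x).1 h1 t ht
  have h2f : Fact (Nat.Prime 2) := ⟨Nat.prime_two⟩
  rw [IsPGroup.iff_card]
  have h1 := Nat.prod_primeFactorsList (n := Nat.card L) Nat.card_pos.ne'
  have h3 : ∀ s ∈ (Nat.card L).primeFactorsList, s = 2 := fun s hs =>
    hprime s (Nat.prime_of_mem_primeFactorsList hs) (Nat.dvd_of_mem_primeFactorsList hs)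
  have h4 := List.eq_replicate_of_mem h3
  refine ⟨(Nat.card L).primeFactorsList.length, ?_⟩
  conv_lhs => rw [← h1, h4]
  rw [List.prod_replicate]

/-- a group acting without fixed points -/
theorem card_dvd_of_free {P Y : Type*} [Group P] [Finite P] [AddCommGroup Y] [Finite Y] [DistribMulAction P Y]
    (h : ∀ g : P, ∀ x : Y, x ≠ 0 → g • x = x → g = 1) : Nat.card P ∣ Nat.card Y - 1 := by
  classical
  letI : MulAction P {x : Y // x ≠ 0} :=
    { smul := fun g x => ⟨g • x.1, fun h => x.2 ((smul_eq_zero_iff_eq g).1 h)⟩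
      one_smul := fun x => Subtype.ext (one_smul P x.1)
      mul_smul := fun a b x => Subtype.ext (mul_smul a b x.1) }
  have h1 : ∀ x : {x : Y // x ≠ 0}, MulAction.stabilizer P x = ⊥ := by
    intro x
    rw [eq_bot_iff]
    intro g hg
    rw [Subgroup.mem_bot]
    have h2 : g • x = x := hg
    exact h g x.1 x.2 (congrArg Subtype.val h2)
  have h2 := Nat.card_congr (MulAction.selfEquivOrbitsQuotientProd h1)
  rw [Nat.card_prod] at h2
  have h3 : Nat.card {x : Y // x ≠ 0} = Nat.card Y - 1 := by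
    have := Fintype.ofFinite Y
    rw [Nat.card_eq_fintype_card, Nat.card_eq_fintype_card, Fintype.card_subtype_compl, Fintype.card_subtype_eq]
  rw [← h3, h2]
  exact Dvd.intro_left _ rfl

theorem card_le_five (hcard : Nat.card X = 81) (hfaith : ∀ g : K, (∀ x : X, g • x = x) → g = 1) (P : Subgroup K)
    (hP : IsPGroup 5 P) : Nat.card P ≤ 5 := by
  have h1 : Nat.card P ∣ Nat.card X - 1 := by
    refine card_dvd_of_free fun g x hx hgx => ?_
    by_contra hg
    have hg' : (g : K) ≠ 1 := fun h => hg (Subtype.ext h)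
    obtain ⟨k, hk⟩ := hP g
    have hy : PEl 5 (g : K) := ⟨k, congrArg Subtype.val hk⟩
    obtain ⟨n, hz, hz1⟩ := exists_order Nat.prime_five hy hg'
    have h2 := fix_bot hcard hfaith hz hz1
    have h3 : x ∈ fixS X ((g : K) ^ n) := by
      have h4 : (g : K) • x = x := hgx
      clear hz hz1 h2
      induction n with
      | zero => rw [pow_zero]; exact one_smul K x
      | succ n ih =>
        show ((g : K) ^ (n + 1)) • x = x
        rw [pow_succ, mul_smul, h4]
        exact ih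
    rw [h2] at h3
    exact hx h3
  rw [hcard] at h1
  have : Fact (Nat.Prime 5) := ⟨Nat.prime_five⟩
  obtain ⟨j, hj⟩ := IsPGroup.iff_card.1 hP
  rw [hj] at h1 ⊢
  have h2 : j < 2 := by
    by_contra hcon
    have h3 : 5 ^ 2 ∣ 81 - 1 := (pow_dvd_pow 5 (by omega)).trans h1
    norm_num at h3
  interval_cases j <;> norm_num

/-- **`5`-nilpotent groups on `3 ^ 4`** -/
theorem sp43 [Group.IsSolvable K] (h3 : ∀ x : X, 3 • x = 0) (hcard : Nat.card X = 81)
    (hfaith : ∀ g : K, (∀ x : X, g • x = x) → g = 1) {L : Subgroup K} (hL : LP 5 L) {y : K} (hy : PEl 5 y) {l : K}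
    (hl : l ∈ L) (hne : y * l ≠ l * y) : Nat.card K ≤ 160 := by
  have h5 := Nat.prime_five
  have : Fact (Nat.Prime 5) := ⟨h5⟩
  have hy1 : y ≠ 1 := by
    rintro rfl
    exact hne (by rw [one_mul, mul_one])
  obtain ⟨n, hz, hz1⟩ := exists_order h5 hy hy1
  have hXn : Nontrivial X := by
    rw [← Finite.one_lt_card_iff_nontrivial, hcard]
    norm_num
  have hirr : Irr K X := fun Y hY => irr_z hcard hfaith hz hz1 Y (hY _)
  obtain ⟨F, _, _, _, ⟨D⟩⟩ := existsPrim K X 3 Nat.prime_three h3 hfaith hirr (not_imprim hcard hfaith hz hz1)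
  obtain ⟨Q, m, hD⟩ := Cfsg.Agent.H308.ClsNum.exists_num K X F D
  have hfin : Module.Finite F X := Module.Finite.of_finite
  have hcd := Module.natCard_eq_pow_finrank (K := F) (V := X)
  have hf2 : 2 ≤ Nat.card F := Finite.one_lt_card
  have hle := hD.le_finrank
  have hrel := hD.relIndex
  have hL2 := L_two hcard hfaith hL hy hy1
  -- `y` does not lie in `A`
  have hyA : y ∉ D.A := by
    intro hyA
    let T : Subgroup K :=
      { carrier := {a | a ∈ D.A ∧ PEl 5 a}
        one_mem' := ⟨D.A.one_mem, 0, by simp⟩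
        mul_mem' := by
          rintro a b ⟨ha, i, hi⟩ ⟨hb, j, hj⟩
          refine ⟨D.A.mul_mem ha hb, i + j, ?_⟩
          have hc : Commute a b := A_comm D ha (D.A_le hb)
          rw [hc.mul_pow, pow_add, pow_mul, hi, one_pow, one_mul, mul_comm, pow_mul, hj, one_pow]
        inv_mem' := by
          rintro a ⟨ha, i, hi⟩
          exact ⟨D.A.inv_mem ha, i, by rw [inv_pow, hi, inv_one]⟩ }
    have hTn : T.Normal := by
      refine ⟨?_⟩
      rintro a ⟨ha, i, hi⟩ g
      exact ⟨D.A_normal.conj_mem a ha g, i, by rw [conj_pow, hi, mul_one, mul_inv_cancel]⟩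
    have hTp : IsPGroup 5 T := by
      rintro ⟨a, ha, i, hi⟩
      exact ⟨i, Subtype.ext hi⟩
    exact hne (comm_of_coprime h5 hL.normal hTn hL.cop hTp l hl y ⟨hyA, hy⟩)
  -- small `S / A` is impossible
  have hsmall : ¬ (5 ∣ Nat.totient (Nat.card F - 1)) → ¬ D.A.relIndex D.S < 5 := by
    intro h1 h2
    have h4 := mem_cent_of_pel D h5 hy h1
    refine hyA (mem_A_of_cop D h5 ?_ hy (mem_S_of_small D h5 h2 hy h4))
    intro h6
    have h7 : D.A.relIndex D.S ≠ 0 := Subgroup.FiniteIndex.index_ne_zero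
    have := Nat.le_of_dvd (Nat.pos_of_ne_zero h7) h6
    omega
  set f := Nat.card F with hf
  set d := Module.finrank F X with hd
  set e := ∏ q ∈ Q, q ^ m q with he
  rw [hcard] at hcd
  have he2 : ∀ a : ℕ, e ≤ a → e ^ 2 ≤ a ^ 2 := fun a h => Nat.pow_le_pow_left h 2
  have hd7 : d < 7 := by
    by_contra hcon
    have h1 : 2 ^ 7 ≤ f ^ d := (Nat.pow_le_pow_left hf2 7).trans (Nat.pow_le_pow_right (by omega) (by omega))
    rw [← hcd] at h1
    norm_num at h1
  have hfd : (d = 1 ∧ f = 81) ∨ (d = 2 ∧ f = 9) ∨ (d = 4 ∧ f = 3) := by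
    interval_cases d
    · simp at hcd
    · left
      exact ⟨rfl, by rw [hcd, pow_one]⟩
    · right; left
      refine ⟨rfl, ?_⟩
      nlinarith
    · exfalso
      have h1 : f < 5 := by
        by_contra hcon
        have := Nat.pow_le_pow_left (show 5 ≤ f by omega) 3
        omega
      interval_cases f <;> simp at hcd
    · right; right
      refine ⟨rfl, ?_⟩
      have h1 : f < 4 := by
        by_contra hcon
        have := Nat.pow_le_pow_left (show 4 ≤ f by omega) 4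
        omega
      interval_cases f
      · simp at hcd
      · rfl
    · exfalso
      have h1 : f < 3 := by
        by_contra hcon
        have := Nat.pow_le_pow_left (show 3 ≤ f by omega) 5
        omega
      interval_cases f
      simp at hcd
    · exfalso
      have h1 : f < 3 := by
        by_contra hcon
        have := Nat.pow_le_pow_left (show 3 ≤ f by omega) 6
        omega
      interval_cases f
      simp at hcd
  rcases hfd with ⟨h1, h2⟩ | ⟨h1, h2⟩ | ⟨h1, h2⟩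
  · exfalso
    rw [h2] at hsmall
    refine hsmall (by decide) ?_
    have := he2 1 (by omega)
    rw [hrel]
    omega
  · exfalso
    rw [h2] at hsmall
    refine hsmall (by decide) ?_
    have := he2 2 (by omega)
    rw [hrel]
    omega
  -- `f = 3`
  have hcent : Subgroup.centralizer (D.A : Set K) = ⊤ := by
    have h4 := index_cent_dvd D
    rw [← hf, h2] at h4
    have h6 : (Subgroup.centralizer (D.A : Set K)).index = 1 := Nat.dvd_one.1 h4
    exact Subgroup.index_eq_one.1 h6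
  have hLS : L ≤ D.S := by
    intro x hx
    refine mem_of_triv D hD (by rw [hcent]; trivial) ?_
    intro q hq
    have h4 := hD.dvd q hq
    rw [← hf, h2] at h4
    have h6 : q = 2 := (Nat.prime_dvd_prime_iff_eq (hD.prime q hq) Nat.prime_two).1 h4
    subst h6
    intro s hs hs2
    refine D.ss 2 Nat.prime_two L hL.normal ?_ x hx s hs hs2
    intro x hx
    obtain ⟨k, hk⟩ := hL2 ⟨x, hx⟩
    refine ⟨k, fun s _ _ => ?_⟩
    have h7 : x ^ 2 ^ k = 1 := congrArg Subtype.val hk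
    rw [h7]
    simp
  have hS32 : Nat.card D.S ≤ 32 := by
    have h4 : Nat.card D.A * D.A.relIndex D.S = Nat.card D.S := by
      rw [← Subgroup.relIndex_bot_left, ← Subgroup.relIndex_bot_left (H := D.S)]
      exact Subgroup.relIndex_mul_relIndex _ _ _ bot_le D.A_le
    have h6 : Nat.card D.A ≤ 2 := by
      have h7 : Nat.card D.A ≤ Nat.card Fˣ := Nat.card_le_card_of_injective _ D.ι_inj
      rw [Nat.card_units, ← hf, h2] at h7
      exact h7
    have h8 := he2 4 (by omega)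
    rw [← h4, hrel]
    calc _ ≤ 2 * 4 ^ 2 := Nat.mul_le_mul h6 h8
      _ = 32 := by norm_num
  have hL32 : Nat.card L ≤ 32 := (Subgroup.card_le_of_le hLS).trans hS32
  obtain ⟨P⟩ : Nonempty (Sylow 5 K) := inferInstance
  have hP5 := card_le_five hcard hfaith (P : Subgroup K) P.isPGroup'
  have hLn := hL.normal
  have hLP : L ⊔ (P : Subgroup K) = ⊤ := by
    have hq : IsPGroup 5 (K ⧸ L) := by
      intro g
      obtain ⟨x, rfl⟩ := QuotientGroup.mk_surjective g
      obtain ⟨k, hk⟩ := hL.isP x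
      exact ⟨k, (QuotientGroup.eq_one_iff _).2 hk⟩
    rw [← Subgroup.index_eq_one]
    obtain ⟨k, hk⟩ := IsPGroup.iff_card.1 hq
    have h1 : (L ⊔ (P : Subgroup K)).index ∣ 5 ^ k := by
      rw [← hk]
      exact Subgroup.index_dvd_of_le le_sup_left
    have h2 : (L ⊔ (P : Subgroup K)).index ∣ (P : Subgroup K).index := Subgroup.index_dvd_of_le le_sup_right
    obtain ⟨j, -, hj⟩ := (Nat.dvd_prime_pow h5).1 h1
    rcases Nat.eq_zero_or_pos j with rfl | hj0
    · rw [hj, pow_zero]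
    · exfalso
      apply P.not_dvd_index
      refine (dvd_pow_self 5 hj0.ne').trans ?_
      rw [← hj]
      exact h2
  have hcardK : Nat.card K ∣ Nat.card L * Nat.card (P : Subgroup K) := by
    have h1 := card_sup_dvd L (P : Subgroup K) hLn
    rwa [hLP, Subgroup.card_top] at h1
  calc Nat.card K ≤ Nat.card L * Nat.card (P : Subgroup K) :=
        Nat.le_of_dvd (Nat.mul_pos Nat.card_pos Nat.card_pos) hcardK
    _ ≤ 32 * 5 := Nat.mul_le_mul hL32 hP5
    _ = 160 := by norm_num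

end

end Cfsg.Agent.H527.RC.Pr5

/-!
## S4191, primitive linear groups: fixed points in symplectic modules in characteristic two
-/

namespace Cfsg.Agent.H527.RC.Pr5

open scoped Pointwise commutatorElement
open Cfsg Cfsg.Agent.Lib.Cores
open Cfsg.Agent.H527.RC Cfsg.Agent.H822.Cls Cfsg.Agent.H668.Dim

universe u

section

variable {K X : Type u} [Group K] [Finite K] [AddCommGroup X] [Finite X] [DistribMulAction K X]

/-- `x ↦ y x - x` -/
def dl (X : Type*) [AddCommGroup X] {K : Type*} [Group K] [DistribMulAction K X] (y : K) : X →+ X where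
  toFun x := y • x - x
  map_zero' := by simp
  map_add' a b := by rw [smul_add]; abel

theorem dl_apply (y : K) (x : X) : dl X y x = y • x - x := rfl

theorem card_range_dl (y : K) : Nat.card (dl X y).range * Nat.card (fixS X y) = Nat.card X := by
  have h1 : (dl X y).ker = fixS X y := by
    ext x
    rw [AddMonoidHom.mem_ker, dl_apply, sub_eq_zero]
    rfl
  rw [← h1, ← Nat.card_congr (QuotientAddGroup.quotientKerEquivRange (dl X y)).toEquiv]
  exact (AddSubgroup.card_eq_card_quotient_mul_card_addSubgroup _).symm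

theorem card_sup_le (A B : AddSubgroup X) : Nat.card (A ⊔ B : AddSubgroup X) ≤ Nat.card A * Nat.card B := by
  rw [← Nat.card_prod]
  refine Nat.card_le_card_of_surjective (fun p : A × B => (⟨p.1 + p.2, AddSubgroup.add_mem_sup p.1.2 p.2.2⟩ : (A ⊔ B : AddSubgroup X))) ?_
  rintro ⟨x, hx⟩
  obtain ⟨a, ha, b, hb, rfl⟩ := AddSubgroup.mem_sup.1 hx
  exact ⟨(⟨a, ha⟩, ⟨b, hb⟩), rfl⟩

theorem fix_two (hK : Odd (Nat.card K)) (hX : ∀ x : X, 2 • x = 0)
    (hfaith : ∀ g : K, (∀ x : X, g • x = x) → g = 1) (β : X → X → ZMod 2)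
    (hβ : ∀ x y z, β (x + y) z = β x z + β y z) (hβ' : ∀ x y z, β x (y + z) = β x y + β x z)
    (hnd : ∀ x, (∀ y, β x y = 0) → x = 0) (hinv : ∀ (g : K) (x y : X), β (g • x) (g • y) = β x y)
    {N : ℕ} (hN : Nat.card X = 2 ^ N) {p : ℕ} (hp : p.Prime) {y g : K} (hy : PEl p y)
    (hys : ¬ p ∣ (Subgroup.zpowers y).index) (hg : g * y * g⁻¹ ∉ Subgroup.zpowers y) :
    2 ^ p * Nat.card (fixS X y) ≤ Nat.card X := by
  have hpf : Fact p.Prime := ⟨hp⟩
  set y' := g * y * g⁻¹ with hy'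
  set D : Subgroup K := Subgroup.zpowers y ⊔ Subgroup.zpowers y' with hD
  have hyD : y ∈ D := (le_sup_left : Subgroup.zpowers y ≤ D) (Subgroup.mem_zpowers y)
  have hyD' : y' ∈ D := (le_sup_right : Subgroup.zpowers y' ≤ D) (Subgroup.mem_zpowers y')
  set Y : AddSubgroup X := (dl X y).range ⊔ (dl X y').range with hY
  have hYl : (dl X y).range ≤ Y := le_sup_left
  have hYr : (dl X y').range ≤ Y := le_sup_right
  -- `D` is contained in the stabiliser of all cosets of `Y`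
  have hcos : ∀ d ∈ D, ∀ x : X, d • x - x ∈ Y := by
    let E : Subgroup K :=
      { carrier := {d | ∀ x : X, d • x - x ∈ Y}
        one_mem' := fun x => by rw [one_smul, sub_self]; exact Y.zero_mem
        mul_mem' := by
          intro a b ha hb x
          have h1 : (a * b) • x - x = (a • (b • x) - b • x) + (b • x - x) := by rw [mul_smul]; abel
          rw [h1]
          exact Y.add_mem (ha _) (hb _)
        inv_mem' := by
          intro a ha x
          have h1 : a⁻¹ • x - x = -(a • (a⁻¹ • x) - a⁻¹ • x) := by rw [smul_inv_smul]; abel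
          rw [h1]
          exact Y.neg_mem (ha _) }
    have h1 : D ≤ E := by
      rw [hD, sup_le_iff, Subgroup.zpowers_le, Subgroup.zpowers_le]
      exact ⟨fun x => hYl ⟨x, rfl⟩, fun x => hYr ⟨x, rfl⟩⟩
    exact fun d hd => h1 hd
  have hYinv : ∀ d ∈ D, ∀ w ∈ Y, d • w ∈ Y := by
    intro d hd w hw
    have h1 := Y.add_mem (hcos d hd w) hw
    rwa [sub_add_cancel] at h1
  have hDodd : Odd (Nat.card D) := hK.of_dvd_nat (Subgroup.card_subgroup_dvd_card D)
  letI : DistribMulAction D Y :=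
    { smul := fun d w => ⟨(d : K) • (w : X), hYinv d d.2 w w.2⟩
      one_smul := fun w => Subtype.ext (one_smul K (w : X))
      mul_smul := fun a b w => Subtype.ext (mul_smul (a : K) (b : K) (w : X))
      smul_zero := fun a => Subtype.ext (smul_zero (a : K))
      smul_add := fun a w v => Subtype.ext (smul_add (a : K) (w : X) (v : X)) }
  have hsm : ∀ (d : D) (w : Y), ((d • w : Y) : X) = (d : K) • (w : X) := fun _ _ => rfl
  have h2x : ∀ x : X, x + x = 0 := fun x => by rw [← two_smul ℕ]; exact hX x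
  -- faithful
  have hfY : ∀ d : D, (∀ w : Y, d • w = w) → d = 1 := by
    intro d hd
    have h1 : ∀ x : X, ((d : K) ^ 2) • x = x := by
      intro x
      have h2 := congrArg Subtype.val (hd ⟨_, hcos d d.2 x⟩)
      have h3 : (d : K) • ((d : K) • x - x) = (d : K) • x - x := h2
      rw [smul_sub] at h3
      have h4 : (d : K) • (d : K) • x = ((d : K) • x + (d : K) • x) - x := by
        have h5 := congrArg (fun v => v + (d : K) • x) h3
        simp only [sub_add_cancel] at h5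
        rw [h5]; abel
      rw [pow_two, mul_smul, h4, h2x, zero_sub]
      exact (eq_neg_of_add_eq_zero_left (h2x x)).symm
    have h2 := hfaith _ h1
    have h3 : d ^ 2 = 1 := Subtype.ext h2
    rw [← orderOf_eq_one_iff]
    have h4 : orderOf d ∣ 2 := orderOf_dvd_of_pow_eq_one h3
    have h5 : Odd (orderOf d) := hDodd.of_dvd_nat (orderOf_dvd_natCard d)
    rcases (Nat.dvd_prime Nat.prime_two).1 h4 with h | h
    · exact h
    · rw [h] at h5
      exact absurd h5 (by decide)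
  -- nondegenerate
  have hβ0 : ∀ x, β x 0 = 0 := by
    intro x
    have := hβ' x 0 0
    rw [add_zero] at this
    exact left_eq_add.1 this
  have hβs : ∀ x a b, β x (a - b) = β x a - β x b := by
    intro x a b
    have := hβ' x (a - b) b
    rw [sub_add_cancel] at this
    rw [this, add_sub_cancel_right]
  have hβ0' : ∀ x, β 0 x = 0 := by
    intro x
    have := hβ 0 0 x
    rw [add_zero] at this
    exact left_eq_add.1 this
  have hβs' : ∀ a b x, β (a - b) x = β a x - β b x := by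
    intro a b x
    have := hβ (a - b) b x
    rw [sub_add_cancel] at this
    rw [this, add_sub_cancel_right]
  have hndY : ∀ w : Y, (∀ v : Y, β w v = 0) → w = 0 := by
    intro w hw
    -- `w` is fixed by `D`
    have h1 : ∀ d ∈ D, d • (w : X) = w := by
      intro d hd
      have h2 : ∀ x : X, β (d⁻¹ • (w : X) - w) x = 0 := by
        intro x
        have h3 : β (w : X) (d • x - x) = 0 := hw ⟨_, hcos d hd x⟩
        rw [hβs] at h3
        rw [hβs', ← hinv d (d⁻¹ • (w : X)) x, smul_inv_smul]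
        exact h3
      have h4 := hnd _ h2
      rw [sub_eq_zero] at h4
      have h5 := congrArg (fun v => d • v) h4
      simp only [smul_inv_smul] at h5
      exact h5.symm
    -- the sum over `D`
    have := Fintype.ofFinite D
    let σ : X →+ X := ∑ d : D, DistribSMul.toAddMonoidHom X (d : K)
    have hσ : ∀ x, σ x = ∑ d : D, (d : K) • x := by
      intro x
      show (∑ d : D, DistribSMul.toAddMonoidHom X (d : K)) x = _
      rw [AddMonoidHom.finsetSum_apply]
      rfl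
    have hσY : ∀ v ∈ Y, σ v = 0 := by
      have h2 : ∀ d ∈ D, ∀ x, σ (d • x) = σ x := by
        intro d hd x
        rw [hσ, hσ]
        refine Fintype.sum_equiv (Equiv.mulRight ⟨d, hd⟩) _ _ fun e => ?_
        rw [smul_smul]
        rfl
      have h3 : Y ≤ σ.ker := by
        rw [hY, sup_le_iff]
        constructor
        · rintro _ ⟨x, rfl⟩
          rw [AddMonoidHom.mem_ker, dl_apply, map_sub, h2 y hyD, sub_self]
        · rintro _ ⟨x, rfl⟩
          rw [AddMonoidHom.mem_ker, dl_apply, map_sub, h2 y' hyD', sub_self]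
      exact fun v hv => h3 hv
    have h2 := hσY w w.2
    rw [hσ, Finset.sum_congr rfl (fun (d : D) _ => h1 d d.2), Finset.sum_const, Finset.card_univ,
      ← Nat.card_eq_fintype_card] at h2
    obtain ⟨k, hk⟩ := hDodd
    rw [hk, add_smul, one_smul, mul_comm, mul_smul, hX, smul_zero, zero_add] at h2
    exact Subtype.ext h2
  -- the order of `Y`
  obtain ⟨n, -, hn⟩ := (Nat.dvd_prime_pow Nat.prime_two).1 (hN ▸ AddSubgroup.card_addSubgroup_dvd_card Y)
  -- the Sylow subgroup of `D` is not normal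
  obtain ⟨P⟩ : Nonempty (Sylow p D) := inferInstance
  have hPn : ¬ (P : Subgroup D).Normal := by
    intro hPn
    have hall : ∀ x : K, ∀ hx : x ∈ D, PEl p x → (⟨x, hx⟩ : D) ∈ (P : Subgroup D) := by
      intro x hx hxp
      have h1 : IsPGroup p (Subgroup.zpowers (⟨x, hx⟩ : D)) := pel_isPGroup (by
        obtain ⟨k, hk⟩ := hxp
        exact ⟨k, Subtype.ext hk⟩)
      obtain ⟨P', hP'⟩ := h1.exists_le_sylow
      have h2 := Sylow.unique_of_normal P hPn
      have h3 : P' = P := Subsingleton.elim _ _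
      rw [← h3]
      exact hP' (Subgroup.mem_zpowers _)
    have hyP := hall y hyD hy
    have hyP' := hall y' hyD' (by
      obtain ⟨k, hk⟩ := hy
      exact ⟨k, by rw [hy', conj_pow, hk, mul_one, mul_inv_cancel]⟩)
    apply hg
    set T : Subgroup K := (P : Subgroup D).map D.subtype with hT
    have hzT : Subgroup.zpowers y ≤ T := by
      rw [Subgroup.zpowers_le]
      exact ⟨_, hyP, rfl⟩
    have hTp : IsPGroup p T := P.isPGroup'.map _
    have hTeq : Subgroup.zpowers y = T := by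
      obtain ⟨k, hk⟩ := IsPGroup.iff_card.1 hTp
      have h1 := Subgroup.relIndex_mul_index hzT
      have h2 : (Subgroup.zpowers y).relIndex T ∣ p ^ k := by
        rw [← hk]
        exact Subgroup.relIndex_dvd_card _ _
      obtain ⟨j, -, hj⟩ := (Nat.dvd_prime_pow hp).1 h2
      rcases Nat.eq_zero_or_pos j with rfl | hj0
      · rw [pow_zero] at hj
        exact le_antisymm hzT (Subgroup.relIndex_eq_one.1 hj)
      · exfalso
        apply hys
        rw [← h1, hj]
        exact (dvd_pow_self p hj0.ne').mul_right _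
    rw [hTeq]
    exact ⟨_, hyP', rfl⟩
  have hmain := Cfsg.Agent.H822.Cls.lemDTwo' p hp D hDodd Y (fun w => Subtype.ext (hX w)) hfY
    (fun w v => β w v) (fun a b c => hβ a b c) (fun a b c => hβ' a b c) hndY (fun d w v => hinv d w v) P hPn n hn
  -- comparison
  have h1 : Nat.card Y ≤ Nat.card (dl X y).range * Nat.card (dl X y').range := card_sup_le _ _
  have h2 := card_range_dl (X := X) y
  have h3 := card_range_dl (X := X) y'
  have h4 : Nat.card (fixS X y') = Nat.card (fixS X y) := by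
    refine Nat.card_congr
      { toFun := fun w => ⟨g⁻¹ • w.1, ?_⟩
        invFun := fun w => ⟨g • w.1, ?_⟩
        left_inv := fun w => Subtype.ext (smul_inv_smul g _)
        right_inv := fun w => Subtype.ext (inv_smul_smul g _) }
    · obtain ⟨w, hw⟩ := w
      have h5 : (g * y * g⁻¹) • w = w := hw
      show y • g⁻¹ • w = g⁻¹ • w
      rw [mul_smul, mul_smul] at h5
      rw [← inv_smul_smul g (y • g⁻¹ • w), h5]
    · obtain ⟨w, hw⟩ := w
      have h5 : y • w = w := hw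
      show (g * y * g⁻¹) • g • w = g • w
      rw [mul_smul, mul_smul, inv_smul_smul, h5]
  have hpos : 0 < Nat.card (fixS X y) := Nat.card_pos
  rw [h4] at h3
  have h5 : Nat.card (dl X y').range = Nat.card (dl X y).range :=
    Nat.eq_of_mul_eq_mul_right hpos (h3.trans h2.symm)
  rw [h5, hn] at h1
  have h6 : 2 ^ p ≤ Nat.card (dl X y).range := by
    rw [← Nat.pow_le_pow_iff_left (two_ne_zero)]
    calc (2 ^ p) ^ 2 = 2 ^ (2 * p) := by rw [← pow_mul, mul_comm]
      _ ≤ 2 ^ n := Nat.pow_le_pow_right (by norm_num) hmain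
      _ ≤ _ := by rw [pow_two]; exact h1
  calc 2 ^ p * Nat.card (fixS X y) ≤ Nat.card (dl X y).range * Nat.card (fixS X y) := Nat.mul_le_mul_right _ h6
    _ = Nat.card X := h2

end

end Cfsg.Agent.H527.RC.Pr5

/-!
## S4191, primitive linear groups: fixed points of bad elements on `X_2`
-/

namespace Cfsg.Agent.H527.RC.Pr5

open scoped Pointwise commutatorElement
open Cfsg Cfsg.Agent.Lib.Cores Subgroup
open Cfsg.Agent.H527.RC Cfsg.Agent.H822.Cls Cfsg.Agent.H668.Dim

universe u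

section

variable {G : Type*} [Group G] [Finite G]

theorem card_mul_relIndex' {H K : Subgroup G} (h : H ≤ K) :
    Nat.card H * H.relIndex K = Nat.card K := by
  rw [Subgroup.relIndex, ← Nat.card_congr (Subgroup.subgroupOfEquivOfLe h).toEquiv]
  exact Subgroup.card_mul_index _

/-- `|K H| |K ∩ H| = |K| |H|` -/
theorem card_sup_mul' {K H : Subgroup G} (h : H ≤ normalizer (K : Set G)) :
    Nat.card (K ⊔ H : Subgroup G) * Nat.card (K ⊓ H : Subgroup G) = Nat.card K * Nat.card H := by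
  have hKn : (K.subgroupOf (K ⊔ H)).Normal :=
    normal_subgroupOf_of_le_normalizer (sup_le le_normalizer h)
  have h1 := relIndex_sup_left (H.subgroupOf (K ⊔ H)) (K.subgroupOf (K ⊔ H))
  rw [← Subgroup.subgroupOf_sup le_sup_left le_sup_right, Subgroup.subgroupOf_self,
    Subgroup.relIndex_subgroupOf le_sup_right, relIndex_top_right] at h1
  have h2 : Nat.card K * K.relIndex H = Nat.card (K ⊔ H : Subgroup G) := by
    rw [← h1]
    exact card_mul_relIndex' le_sup_left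
  have h3 : Nat.card (K ⊓ H : Subgroup G) * K.relIndex H = Nat.card H := by
    rw [← Subgroup.inf_relIndex_right K H]
    exact card_mul_relIndex' inf_le_right
  calc _ = Nat.card (K ⊔ H : Subgroup G) * Nat.card (K ⊓ H : Subgroup G) := rfl
    _ = Nat.card K * (Nat.card (K ⊓ H : Subgroup G) * K.relIndex H) := by rw [← h2]; ring
    _ = _ := by rw [h3]

/-- the group `R ⟨y⟩` -/
theorem exists_K {p r : ℕ} (hp : p.Prime) (hr : r.Prime) (hrp : r ≠ p) {R : Subgroup G} (hR : IsPGroup r R) {y : G}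
    (hy : PEl p y) (hRy : ∀ x ∈ R, y * x * y⁻¹ ∈ R) (hne : ∃ x ∈ R, y * x ≠ x * y) :
    ∃ (K : Subgroup G) (hyK : y ∈ K), K = R ⊔ zpowers y ∧ (∃ i j : ℕ, Nat.card K = r ^ i * p ^ j) ∧
      (¬ p ∣ (zpowers (⟨y, hyK⟩ : K)).index) ∧ ∃ g : K, g * ⟨y, hyK⟩ * g⁻¹ ∉ zpowers (⟨y, hyK⟩ : K) := by
  have hrf : Fact r.Prime := ⟨hr⟩
  have hyn : zpowers y ≤ normalizer (R : Set G) := by
    rw [zpowers_le]
    exact mem_normalizer_fintype hRy
  have hyK : y ∈ R ⊔ zpowers y := (le_sup_right : zpowers y ≤ R ⊔ zpowers y) (mem_zpowers y)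
  obtain ⟨i, hi⟩ := IsPGroup.iff_card.1 hR
  obtain ⟨j, hj⟩ := pel_card hp hy
  have hcop : Nat.Coprime (r ^ i) (p ^ j) := Nat.Coprime.pow _ _ ((Nat.coprime_primes hr hp).2 hrp)
  have hinf : ∀ x ∈ R, x ∈ zpowers y → x = 1 := by
    intro x hx hxy
    rw [← orderOf_eq_one_iff]
    refine Nat.eq_one_of_dvd_coprimes hcop ?_ ?_
    · rw [← hi]; exact orderOf_dvd_natCard R hx
    · rw [← hj]; exact orderOf_dvd_natCard _ hxy
  have hbot : R ⊓ zpowers y = ⊥ := by
    rw [eq_bot_iff]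
    intro x hx
    exact hinf x hx.1 hx.2
  have hcard := card_sup_mul' hyn
  rw [hbot, card_bot, mul_one, hi, hj] at hcard
  refine ⟨R ⊔ zpowers y, hyK, rfl, ⟨i, j, hcard⟩, ?_, ?_⟩
  · have h1 : Nat.card (zpowers (⟨y, hyK⟩ : (R ⊔ zpowers y : Subgroup G))) = p ^ j := by
      rw [← hj, Nat.card_zpowers, Nat.card_zpowers, Subgroup.orderOf_mk]
    have h2 := card_mul_index (zpowers (⟨y, hyK⟩ : (R ⊔ zpowers y : Subgroup G)))
    rw [h1, hcard, mul_comm (r ^ i)] at h2
    have h3 := Nat.eq_of_mul_eq_mul_left (pow_pos hp.pos j) h2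
    rw [h3]
    intro h4
    exact hrp ((Nat.prime_dvd_prime_iff_eq hp hr).1 (hp.dvd_of_dvd_pow h4)).symm
  · obtain ⟨x, hx, hxy⟩ := hne
    refine ⟨⟨x, (le_sup_left : R ≤ R ⊔ zpowers y) hx⟩, ?_⟩
    intro h
    obtain ⟨k, hk⟩ := mem_zpowers_iff.1 h
    have h1 : y ^ k = x * y * x⁻¹ := congrArg Subtype.val hk
    have h2 : x * y * x⁻¹ * y⁻¹ ∈ zpowers y := by
      rw [← h1, ← zpow_neg_one, ← zpow_add]
      exact zpow_mem_zpowers _ _
    have h3 : x * y * x⁻¹ * y⁻¹ ∈ R := by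
      have : x * y * x⁻¹ * y⁻¹ = x * (y * x⁻¹ * y⁻¹) := by group
      rw [this]
      exact R.mul_mem hx (hRy _ (R.inv_mem hx))
    have h4 := hinf _ h3 h2
    rw [mul_inv_eq_one, mul_inv_eq_iff_eq_mul] at h4
    exact hxy h4.symm

end

section

variable {H W F : Type u} [Group H] [Finite H] [AddCommGroup W] [Finite W] [Nontrivial W]
  [DistribMulAction H W] [Field F] [Finite F] [Module F W] (D : Prim H W F)

theorem card_fixedX (q : ℕ) (z : H) : Nat.card {x : XQ D q // rho D q z x = x} = D.A.relIndex (TS D z ⊓ XL D q) := by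
  have h1 : D.A.relIndex (TS D z ⊓ XL D q) = Nat.card ((TS D z ⊓ XL D q : Subgroup H).map (QuotientGroup.mk' D.A)) := by
    rw [← Subgroup.relIndex_ker, QuotientGroup.ker_mk']
  have hiff : ∀ {s : H} (hs : s ∈ XL D q), rho D q z (cl D hs) = cl D hs ↔ z * s * z⁻¹ * s⁻¹ ∈ D.A := by
    intro s hs
    rw [rho_cl, eq_comm, cl_eq_iff, D.A_normal.mem_comm_iff]
  rw [h1]
  refine Nat.card_congr
    { toFun := fun x => ⟨x.1.1, ?_⟩
      invFun := fun x => ⟨⟨x.1, ?_⟩, ?_⟩
      left_inv := fun x => rfl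
      right_inv := fun x => rfl }
  · obtain ⟨x, hx⟩ := x
    obtain ⟨s, hs, rfl⟩ := exists_cl D x
    exact ⟨s, ⟨⟨hs.1, (hiff hs).1 hx⟩, hs⟩, rfl⟩
  · obtain ⟨_, s, hs, rfl⟩ := x
    exact ⟨s, hs.2, rfl⟩
  · obtain ⟨_, s, hs, rfl⟩ := x
    exact (hiff hs.2).2 hs.1.2

/-- fixed points of bad elements on `X_2` -/
theorem c_two {p : ℕ} (hp : p.Prime) (hp2 : p ≠ 2) {Q : Finset ℕ} {m : ℕ → ℕ} (hD : D.Num Q m) (h2Q : 2 ∈ Q) {y : H}
    (hy : PEl p y) {r : ℕ} (hr : r.Prime) (hrp : r ≠ p) (hr2 : r ≠ 2) {R : Subgroup (MulAut (XQ D 2))}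
    (hR : IsPGroup r R) (hRr : R ≤ (rho D 2).range) (hRy : ∀ x ∈ R, rho D 2 y * x * (rho D 2 y)⁻¹ ∈ R)
    (hne : ∃ x ∈ R, rho D 2 y * x ≠ x * rho D 2 y) :
    2 ^ p * D.A.relIndex (TS D y ⊓ XL D 2) ≤ 2 ^ (2 * m 2) := by
  have hy' : PEl p (rho D 2 y) := by
    obtain ⟨k, hk⟩ := hy
    exact ⟨k, by rw [← map_pow, hk, map_one]⟩
  obtain ⟨K, hyK, hK, ⟨i, j, hij⟩, hind, g, hg⟩ := exists_K hp hr hrp hR hy' hRy hne
  let _ := act K.subtype
  have hXf : Finite (Additive (XQ D 2)) := inferInstanceAs (Finite (XQ D 2))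
  have hcard : Nat.card (Additive (XQ D 2)) = 2 ^ (2 * m 2) := card_XQ D hD h2Q
  have hX : ∀ x : Additive (XQ D 2), 2 • x = 0 := fun x => cl_pow D 2 x.toMul
  have hfaith : ∀ g : K, (∀ x : Additive (XQ D 2), g • x = x) → g = 1 := by
    intro g hg
    refine Subtype.ext ?_
    ext x
    exact congrArg Subtype.val (hg (Additive.ofMul x))
  have hodd : Odd (Nat.card K) := by
    rw [hij]
    exact Odd.mul (hr.odd_of_ne_two hr2).pow (hp.odd_of_ne_two hp2).pow
  have hKr : ∀ g : K, ∃ h : H, (g : MulAut (XQ D 2)) = rho D 2 h := by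
    have h1 : K ≤ (rho D 2).range := by
      rw [hK, sup_le_iff, zpowers_le]
      exact ⟨hRr, ⟨y, rfl⟩⟩
    intro g
    obtain ⟨h, hh⟩ := h1 g.2
    exact ⟨h, hh.symm⟩
  have hy'' : PEl p (⟨rho D 2 y, hyK⟩ : K) := by
    obtain ⟨k, hk⟩ := hy'
    exact ⟨k, Subtype.ext hk⟩
  have hmain := fix_two hodd hX hfaith (Cfsg.Agent.H668.Dim.beta D) (beta_add D) (beta_add' D) (beta_nondeg D)
    (by
      intro g x y
      obtain ⟨h, hh⟩ := hKr g
      have h1 : ∀ x : Additive (XQ D 2), g • x = Additive.ofMul (rho D 2 h x.toMul) := by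
        intro x
        show Additive.ofMul ((g : MulAut (XQ D 2)) x.toMul) = _
        rw [hh]
      rw [h1, h1]
      exact beta_inv D h x y) hcard hp hy'' hind hg
  rw [hcard] at hmain
  have hfix : Nat.card (fixS (Additive (XQ D 2)) (⟨rho D 2 y, hyK⟩ : K)) = D.A.relIndex (TS D y ⊓ XL D 2) := by
    rw [← card_fixedX]
    exact Nat.card_congr (Equiv.subtypeEquivRight fun x => Iff.rfl)
  rwa [hfix] at hmain

end

end Cfsg.Agent.H527.RC.Pr5

/-!
## S4191, primitive linear groups, `p = 5`: numbers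
-/

namespace Cfsg.Agent.H527.RC.Pr5

/-- the largest `k`-th root -/
theorem exists_max (k K : ℕ) (hk : 1 ≤ k) : ∃ x : ℕ, x ^ k ≤ K ∧ ∀ c : ℕ, c ^ k ≤ K → c ≤ x := by
  refine ⟨Nat.findGreatest (fun t => t ^ k ≤ K) K, ?_, ?_⟩
  · refine Nat.findGreatest_spec (P := fun t => t ^ k ≤ K) (m := 0) (Nat.zero_le _) ?_
    show 0 ^ k ≤ K
    rw [zero_pow (by omega)]
    exact Nat.zero_le _
  · intro c hc
    exact Nat.le_findGreatest ((Nat.le_self_pow (by omega) c).trans hc) hc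

theorem pow_step {e : ℕ} (he : 49 ≤ e) : (e + 1) ^ 16 ≤ 3 * e ^ 16 := by
  have h1 : (e + 1) * 49 ≤ 50 * e := by omega
  have h2 : (e + 1) ^ 16 * 49 ^ 16 ≤ 50 ^ 16 * e ^ 16 := by
    rw [← mul_pow, ← mul_pow]
    exact Nat.pow_le_pow_left h1 16
  have h3 : 50 ^ 16 * e ^ 16 ≤ 3 * 49 ^ 16 * e ^ 16 := Nat.mul_le_mul_right _ (by norm_num)
  have h4 : (e + 1) ^ 16 * 49 ^ 16 ≤ (3 * e ^ 16) * 49 ^ 16 := by
    calc _ ≤ _ := h2.trans h3
      _ = _ := by ring
  exact Nat.le_of_mul_le_mul_right h4 (by norm_num)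

theorem key_four {e : ℕ} (he : 49 ≤ e) : 4 * e ^ 16 ≤ 4 ^ (e - 2) := by
  induction e, he using Nat.le_induction with
  | base => norm_num
  | succ e he ih =>
    have h1 : e + 1 - 2 = (e - 2) + 1 := by omega
    rw [h1, pow_succ]
    have h2 := pow_step he
    calc 4 * (e + 1) ^ 16 ≤ 4 * (3 * e ^ 16) := Nat.mul_le_mul_left _ h2
      _ = 3 * (4 * e ^ 16) := by ring
      _ ≤ 3 * 4 ^ (e - 2) := Nat.mul_le_mul_left _ ih
      _ ≤ 4 ^ (e - 2) * 4 := by omega

theorem key_three {e : ℕ} (he : 64 ≤ e) : 4 * e ^ 16 ≤ 3 ^ (e - 2) := by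
  induction e, he using Nat.le_induction with
  | base => norm_num
  | succ e he ih =>
    have h1 : e + 1 - 2 = (e - 2) + 1 := by omega
    rw [h1, pow_succ]
    have h2 := pow_step (show 49 ≤ e by omega)
    calc 4 * (e + 1) ^ 16 ≤ 4 * (3 * e ^ 16) := Nat.mul_le_mul_left _ h2
      _ = 3 * (4 * e ^ 16) := by ring
      _ ≤ 3 * 3 ^ (e - 2) := Nat.mul_le_mul_left _ ih
      _ = 3 ^ (e - 2) * 3 := by ring

/-- the pairs `(f, e)` of the general case -/
theorem key {f e : ℕ} (h : (4 ≤ f ∧ 49 ≤ e) ∨ (3 ≤ f ∧ 64 ≤ e) ∨ (7 ≤ f ∧ e = 36) ∨ (7 ≤ f ∧ e = 32) ∨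
    (10 ≤ f ∧ e = 27)) : 4 * e ^ 16 ≤ f ^ (e - 2) ∧ 3 ≤ f ∧ 27 ≤ e := by
  rcases h with ⟨hf, he⟩ | ⟨hf, he⟩ | ⟨hf, rfl⟩ | ⟨hf, rfl⟩ | ⟨hf, rfl⟩
  · exact ⟨(key_four he).trans (Nat.pow_le_pow_left hf _), by omega, by omega⟩
  · exact ⟨(key_three he).trans (Nat.pow_le_pow_left hf _), hf, by omega⟩
  · exact ⟨le_trans (by norm_num) (Nat.pow_le_pow_left hf _), by omega, by omega⟩
  · exact ⟨le_trans (by norm_num) (Nat.pow_le_pow_left hf _), by omega, by omega⟩
  · exact ⟨le_trans (by norm_num) (Nat.pow_le_pow_left hf _), by omega, by omega⟩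

/-- the general case -/
theorem count_general {f e d a h s t : ℕ} (hk : 4 * e ^ 16 ≤ f ^ (e - 2)) (hf3 : 3 ≤ f) (he : 27 ≤ e) (hed : e ≤ d)
    (ha : a ≤ f * e ^ 8) (hh : h ≤ f * (f * e ^ 8)) (hs : s ^ 2 ≤ f ^ d) (ht : t ^ 5 ≤ f ^ d) (ht1 : 1 ≤ t) :
    a * s + h * t + h < f ^ d := by
  have hfe : f ^ e = f ^ (e - 2) * f ^ 2 := by rw [← pow_add]; congr 1; omega
  have hV : f ^ e ≤ f ^ d := Nat.pow_le_pow_right (by omega) hed
  have hV27 : f ^ 27 ≤ f ^ d := Nat.pow_le_pow_right (by omega) (he.trans hed)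
  set V := f ^ d with hVdef
  have hVpos : 0 < V := pow_pos (by omega) _
  have h1 : 4 * (f * e ^ 8) ^ 2 ≤ V := by
    calc 4 * (f * e ^ 8) ^ 2 = (4 * e ^ 16) * f ^ 2 := by ring
      _ ≤ f ^ (e - 2) * f ^ 2 := Nat.mul_le_mul_right _ hk
      _ ≤ V := by rw [← hfe]; exact hV
  -- the first term
  have h2 : 2 * (a * s) ≤ V := by
    have h3 : (2 * (a * s)) ^ 2 ≤ V ^ 2 := by
      calc (2 * (a * s)) ^ 2 = 4 * a ^ 2 * s ^ 2 := by ring
        _ ≤ 4 * (f * e ^ 8) ^ 2 * V := by gcongr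
        _ ≤ V * V := Nat.mul_le_mul_right _ h1
        _ = V ^ 2 := by ring
    exact (Nat.pow_le_pow_iff_left two_ne_zero).1 h3
  -- the second term
  have h4 : 8 * (h * t) ≤ V := by
    have h9 : 4 ^ 10 * f ^ 10 ≤ f ^ 27 * f ^ 27 * f ^ 27 := by
      calc 4 ^ 10 * f ^ 10 ≤ 3 ^ 17 * f ^ 10 := Nat.mul_le_mul_right _ (by norm_num)
        _ ≤ f ^ 17 * f ^ 10 := by gcongr
        _ = f ^ 27 := by ring
        _ = f ^ 27 * 1 * 1 := by ring
        _ ≤ f ^ 27 * f ^ 27 * f ^ 27 := by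
            have : 1 ≤ f ^ 27 := Nat.one_le_pow _ _ (by omega)
            gcongr
    have h5 : (8 * (h * t)) ^ 10 ≤ V ^ 10 := by
      calc (8 * (h * t)) ^ 10 = 8 ^ 10 * h ^ 10 * (t ^ 5) ^ 2 := by ring
        _ ≤ 8 ^ 10 * (f * (f * e ^ 8)) ^ 10 * V ^ 2 := by gcongr
        _ = (4 * (f * e ^ 8) ^ 2) ^ 5 * (4 ^ 10 * f ^ 10) * V ^ 2 := by ring
        _ ≤ V ^ 5 * (f ^ 27 * f ^ 27 * f ^ 27) * V ^ 2 :=
            Nat.mul_le_mul_right _ (Nat.mul_le_mul (Nat.pow_le_pow_left h1 5) h9)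
        _ ≤ V ^ 5 * (V * V * V) * V ^ 2 := by gcongr
        _ = V ^ 10 := by ring
    exact (Nat.pow_le_pow_iff_left (by norm_num)).1 h5
  have h6 : h ≤ h * t := Nat.le_mul_of_pos_right _ ht1
  omega

/-- `N x ≤ 2 V` -/
theorem ineq_x {N x V : ℕ} (hx : x ^ 45 ≤ V ^ 13) (hN : N ^ 45 ≤ 2 ^ 45 * V ^ 32) : N * x ≤ 2 * V := by
  have h : (N * x) ^ 45 ≤ (2 * V) ^ 45 := by
    calc (N * x) ^ 45 = N ^ 45 * x ^ 45 := by ring
      _ ≤ 2 ^ 45 * V ^ 32 * V ^ 13 := Nat.mul_le_mul hN hx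
      _ = (2 * V) ^ 45 := by ring
  exact (Nat.pow_le_pow_iff_left (by norm_num)).1 h

theorem ineq_t {N t V : ℕ} (ht : t ^ 5 ≤ V) (hN : (16 * N) ^ 5 ≤ V ^ 4) : 16 * (N * t) ≤ V := by
  have h : (16 * (N * t)) ^ 5 ≤ V ^ 5 := by
    calc (16 * (N * t)) ^ 5 = (16 * N) ^ 5 * t ^ 5 := by ring
      _ ≤ V ^ 4 * V := Nat.mul_le_mul hN ht
      _ = V ^ 5 := by ring
  exact (Nat.pow_le_pow_iff_left (by norm_num)).1 h

/-- the special case `e = 9` -/
theorem nine_small {f d x B h : ℕ} (hf : f = 4 ∨ f = 7 ∨ f = 10 ∨ f = 13) (hd : 9 ≤ d) (hx : x ^ 45 ≤ (f ^ d) ^ 13)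
    (hB : 4 * B ≤ 4 + 12960 * x) (hh : h ≤ Nat.totient (f - 1) * ((f - 1) * 12960)) : B + h < f ^ d := by
  have hV : f ^ 9 ≤ f ^ d := Nat.pow_le_pow_right (by omega) hd
  set V := f ^ d
  have h4 : 4 ^ 9 ≤ V := le_trans (Nat.pow_le_pow_left (by omega) 9) hV
  have h1 : 12960 * x ≤ 2 * V := by
    refine ineq_x hx ?_
    calc (12960 : ℕ) ^ 45 ≤ 2 ^ 45 * (4 ^ 9) ^ 32 := by norm_num
      _ ≤ 2 ^ 45 * V ^ 32 := by gcongr
  have h2 : 3 * h ≤ V := by
    refine le_trans ?_ hV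
    rcases hf with rfl | rfl | rfl | rfl
    · have : Nat.totient 3 = 2 := by decide
      norm_num [this] at hh ⊢
      omega
    · have : Nat.totient 6 = 2 := by decide
      norm_num [this] at hh ⊢
      omega
    · have : Nat.totient 9 = 6 := by decide
      norm_num [this] at hh ⊢
      omega
    · have : Nat.totient 12 = 4 := by decide
      norm_num [this] at hh ⊢
      omega
  norm_num at h4
  omega

theorem nine_large {f d x t B h : ℕ} (hf : 16 ≤ f) (hd : 9 ≤ d) (hx : x ^ 45 ≤ (f ^ d) ^ 13)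
    (ht : t ^ 5 ≤ f ^ d) (ht1 : 1 ≤ t)
    (hB : 4 * B ≤ 4 + (f * 12960) * x + 4 * (h * t)) (hh : h ≤ f * (f * 12960)) : B + h < f ^ d := by
  have hV : f ^ 9 ≤ f ^ d := Nat.pow_le_pow_right (by omega) hd
  set V := f ^ d
  have h4 : 16 ^ 9 ≤ V := le_trans (Nat.pow_le_pow_left (by omega) 9) hV
  have h1 : (f * 12960) * x ≤ 2 * V := by
    refine ineq_x hx ?_
    calc (f * 12960) ^ 45 = f ^ 45 * 12960 ^ 45 := by ring
      _ ≤ f ^ 45 * (2 ^ 45 * 16 ^ 243) := Nat.mul_le_mul_left _ (by norm_num)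
      _ ≤ f ^ 45 * (2 ^ 45 * f ^ 243) := by gcongr
      _ = 2 ^ 45 * (f ^ 9) ^ 32 := by ring
      _ ≤ 2 ^ 45 * V ^ 32 := by gcongr
  have h2 : 16 * (h * t) ≤ V := by
    have h3 : 16 * (f * (f * 12960) * t) ≤ V := by
      refine ineq_t ht ?_
      calc (16 * (f * (f * 12960))) ^ 5 = f ^ 10 * (16 * 12960) ^ 5 := by ring
        _ ≤ f ^ 10 * 16 ^ 26 := Nat.mul_le_mul_left _ (by norm_num)
        _ ≤ f ^ 10 * f ^ 26 := by gcongr
        _ = (f ^ 9) ^ 4 := by ring
        _ ≤ V ^ 4 := by gcongr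
    calc 16 * (h * t) ≤ 16 * (f * (f * 12960) * t) := by gcongr
      _ ≤ V := h3
  have h5 : h ≤ h * t := Nat.le_mul_of_pos_right _ ht1
  norm_num at h4
  omega

/-- the special case `e = 18` -/
theorem eighteen_small {f d x B h : ℕ} (hf : f = 7 ∨ f = 13) (hd : 18 ≤ d) (hx : x ^ 45 ≤ (f ^ d) ^ 13)
    (hB : 4 * B ≤ 4 + 18 ^ 8 * x) (hh : h ≤ Nat.totient (f - 1) * ((f - 1) * 18 ^ 8)) : B + h < f ^ d := by
  have hV : f ^ 18 ≤ f ^ d := Nat.pow_le_pow_right (by omega) hd
  set V := f ^ d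
  have h4 : 7 ^ 18 ≤ V := le_trans (Nat.pow_le_pow_left (by omega) 18) hV
  have h1 : 18 ^ 8 * x ≤ 2 * V := by
    refine ineq_x hx ?_
    calc ((18 : ℕ) ^ 8) ^ 45 ≤ 2 ^ 45 * (7 ^ 18) ^ 32 := by norm_num
      _ ≤ 2 ^ 45 * V ^ 32 := by gcongr
  have h2 : 3 * h ≤ V := by
    refine le_trans ?_ hV
    rcases hf with rfl | rfl
    · have : Nat.totient 6 = 2 := by decide
      norm_num [this] at hh ⊢
      omega
    · have : Nat.totient 12 = 4 := by decide
      norm_num [this] at hh ⊢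
      omega
  norm_num at h4
  omega

theorem eighteen_large {f d x t B h : ℕ} (hf : 16 ≤ f) (hd : 18 ≤ d) (hx : x ^ 45 ≤ (f ^ d) ^ 13)
    (ht : t ^ 5 ≤ f ^ d) (ht1 : 1 ≤ t)
    (hB : 4 * B ≤ 4 + (f * 18 ^ 8) * x + 4 * (h * t)) (hh : h ≤ f * (f * 18 ^ 8)) : B + h < f ^ d := by
  have hV : f ^ 18 ≤ f ^ d := Nat.pow_le_pow_right (by omega) hd
  set V := f ^ d
  have h4 : 16 ^ 18 ≤ V := le_trans (Nat.pow_le_pow_left (by omega) 18) hV
  have h1 : (f * 18 ^ 8) * x ≤ 2 * V := by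
    refine ineq_x hx ?_
    have h3 : f * 18 ^ 8 ≤ f * f ^ 9 := Nat.mul_le_mul_left _ (le_trans (by norm_num) (Nat.pow_le_pow_left hf 9))
    calc (f * 18 ^ 8) ^ 45 ≤ (f * f ^ 9) ^ 45 := Nat.pow_le_pow_left h3 45
      _ = 1 * (f ^ 18) ^ 25 := by ring
      _ ≤ 2 ^ 45 * (f ^ 18) ^ 32 := by
          refine Nat.mul_le_mul (by norm_num) (Nat.pow_le_pow_right ?_ (by norm_num))
          exact Nat.pow_pos (by omega)
      _ ≤ 2 ^ 45 * V ^ 32 := by gcongr
  have h2 : 16 * (h * t) ≤ V := by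
    have h3 : 16 * (f * (f * 18 ^ 8) * t) ≤ V := by
      refine ineq_t ht ?_
      calc (16 * (f * (f * 18 ^ 8))) ^ 5 = f ^ 10 * (16 * 18 ^ 8) ^ 5 := by ring
        _ ≤ f ^ 10 * 16 ^ 62 := Nat.mul_le_mul_left _ (by norm_num)
        _ ≤ f ^ 10 * f ^ 62 := by gcongr
        _ = (f ^ 18) ^ 4 := by ring
        _ ≤ V ^ 4 := by gcongr
    calc 16 * (h * t) ≤ 16 * (f * (f * 18 ^ 8) * t) := by gcongr
      _ ≤ V := h3
  have h5 : h ≤ h * t := Nat.le_mul_of_pos_right _ ht1
  norm_num at h4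
  omega

/-- the special case `e = 27` -/
theorem twentyseven {f d x B h : ℕ} (hf : f = 4 ∨ f = 7) (hd : 27 ≤ d) (hx : x ^ 45 ≤ (f ^ d) ^ 13)
    (hB : 4 * B ≤ 4 + 27 ^ 8 * x) (hh : h ≤ Nat.totient (f - 1) * ((f - 1) * 27 ^ 8)) : B + h < f ^ d := by
  have hV : f ^ 27 ≤ f ^ d := Nat.pow_le_pow_right (by omega) hd
  set V := f ^ d
  have h4 : 4 ^ 27 ≤ V := le_trans (Nat.pow_le_pow_left (by omega) 27) hV
  have h1 : 27 ^ 8 * x ≤ 2 * V := by
    refine ineq_x hx ?_
    calc ((27 : ℕ) ^ 8) ^ 45 ≤ 2 ^ 45 * (4 ^ 27) ^ 32 := by norm_num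
      _ ≤ 2 ^ 45 * V ^ 32 := by gcongr
  have h2 : 3 * h ≤ V := by
    refine le_trans ?_ hV
    rcases hf with rfl | rfl
    · have : Nat.totient 3 = 2 := by decide
      norm_num [this] at hh ⊢
      omega
    · have : Nat.totient 6 = 2 := by decide
      norm_num [this] at hh ⊢
      omega
  norm_num at h4
  omega

/-- the special case `e = 32`, `f = 3` -/
theorem thirtytwo {d x B h : ℕ} (hd : 32 ≤ d) (hx : x ^ 4 ≤ 3 ^ d)
    (hB : 4 * B ≤ 4 + 2 ^ 40 * x) (hh : h ≤ 2 ^ 41) : B + h < 3 ^ d := by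
  have hV : 3 ^ 32 ≤ 3 ^ d := Nat.pow_le_pow_right (by omega) hd
  set V := 3 ^ d
  have h1 : 40 * 2 ^ 38 * x ≤ 39 * V := by
    have h2 : (40 * 2 ^ 38 * x) ^ 4 ≤ (39 * V) ^ 4 := by
      calc (40 * 2 ^ 38 * x) ^ 4 = (40 * 2 ^ 38) ^ 4 * x ^ 4 := by ring
        _ ≤ (39 ^ 4 * (3 ^ 32) ^ 3) * V := Nat.mul_le_mul (by norm_num) hx
        _ ≤ (39 ^ 4 * V ^ 3) * V := by gcongr
        _ = (39 * V) ^ 4 := by ring
    exact (Nat.pow_le_pow_iff_left (by norm_num)).1 h2
  norm_num at hV hB hh h1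
  omega

end Cfsg.Agent.H527.RC.Pr5

/-!
## S4191, primitive linear groups, `p = 5`: counting
-/

namespace Cfsg.Agent.H527.RC.Pr5

open scoped Pointwise commutatorElement
open Cfsg Cfsg.Agent.Lib.Cores Subgroup
open Cfsg.Agent.H527.RC Cfsg.Agent.H822.Cls Cfsg.Agent.H668.Dim

universe u

section

variable {H W : Type*} [Group H] [Finite H] [Finite W] [MulAction H W]

theorem fix_pow {z : H} (hz : z ^ 5 = 1) {i : ℕ} (hi : 1 ≤ i) (hi4 : i ≤ 4) (w : W) : z ^ i • w = w ↔ z • w = w := by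
  have h1 : ∀ (g : H) (n : ℕ), g • w = w → g ^ n • w = w := by
    intro g n h
    induction n with
    | zero => simp
    | succ n ih => rw [pow_succ, mul_smul, h, ih]
  constructor
  · intro h
    obtain ⟨n, m, hn⟩ : ∃ n m : ℕ, i * n = 5 * m + 1 := by
      interval_cases i
      · exact ⟨1, 0, by norm_num⟩
      · exact ⟨3, 1, by norm_num⟩
      · exact ⟨2, 1, by norm_num⟩
      · exact ⟨4, 3, by norm_num⟩
    have h2 := h1 _ n h
    rwa [← pow_mul, hn, pow_add, pow_mul, hz, one_pow, one_mul, pow_one] at h2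
  · exact h1 z i

/-- every element of order `5` has `4` generators -/
theorem count_four (Z : Set H) (hZ : ∀ z ∈ Z, z ^ 5 = 1 ∧ z ≠ 1) (hZc : ∀ z ∈ Z, ∀ i : ℕ, 1 ≤ i → i ≤ 4 → z ^ i ∈ Z)
    {x : ℕ} (hx : ∀ z ∈ Z, Nat.card {w : W // z • w = w} ≤ x) :
    4 * Nat.card {w : W // ∃ z ∈ Z, z • w = w} ≤ Nat.card Z * x := by
  classical
  have h1 : Nat.card ((z : Z) × {w : W // (z : H) • w = w}) ≤ Nat.card Z * x := by
    have := Fintype.ofFinite Z
    rw [Nat.card_sigma, Nat.card_eq_fintype_card, ← Finset.card_univ, ← smul_eq_mul]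
    exact Finset.sum_le_card_nsmul _ _ _ fun z _ => hx z z.2
  refine le_trans ?_ h1
  have h2 : 4 * Nat.card {w : W // ∃ z ∈ Z, z • w = w} = Nat.card ({w : W // ∃ z ∈ Z, z • w = w} × Fin 4) := by
    rw [Nat.card_prod, Nat.card_eq_fintype_card (α := Fin 4), Fintype.card_fin, mul_comm]
  rw [h2]
  have hch : ∀ w : {w : W // ∃ z ∈ Z, z • w = w}, ∃ z ∈ Z, z • (w : W) = w := fun w => w.2
  choose g hg hgw using hch
  refine Nat.card_le_card_of_injective (fun p => ⟨⟨g p.1 ^ ((p.2 : ℕ) + 1), hZc _ (hg p.1) _ (by omega) (by omega)⟩,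
    ⟨p.1, (fix_pow (hZ _ (hg p.1)).1 (by omega) (by omega) _).2 (hgw p.1)⟩⟩) ?_
  rintro ⟨w, i⟩ ⟨w', i'⟩ h
  have h3 : (w : W) = w' := by
    have := congrArg (fun s : ((z : Z) × {w : W // (z : H) • w = w}) => (s.2 : W)) h
    exact this
  have h3' : w = w' := Subtype.ext h3
  subst h3'
  have h4 : g w ^ ((i : ℕ) + 1) = g w ^ ((i' : ℕ) + 1) := by
    have := congrArg (fun s : ((z : Z) × {w : W // (z : H) • w = w}) => (s.1 : H)) h
    exact this
  have ho : orderOf (g w) = 5 := by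
    rcases (Nat.dvd_prime Nat.prime_five).1 (orderOf_dvd_of_pow_eq_one (hZ _ (hg w)).1) with h5 | h5
    · exact absurd (orderOf_eq_one_iff.1 h5) (hZ _ (hg w)).2
    · exact h5
  rw [pow_inj_mod, ho] at h4
  have h5 : i = i' := by
    apply Fin.ext
    have := i.2
    have := i'.2
    omega
  rw [h5]

theorem count_any (Z : Set H) {t : ℕ} (ht : ∀ z ∈ Z, Nat.card {w : W // z • w = w} ≤ t) :
    Nat.card {w : W // ∃ z ∈ Z, z • w = w} ≤ Nat.card Z * t := by
  classical
  have h1 := Cfsg.Agent.H699.RC.card_iUnion_le (ι := Z) (fun z => {w : W | (z : H) • w = w}) t (fun z => ht z z.2)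
  refine le_trans (le_of_eq ?_) h1
  refine Nat.card_congr (Equiv.subtypeEquivRight fun w => ?_)
  constructor
  · rintro ⟨z, hz, h⟩
    exact ⟨⟨z, hz⟩, h⟩
  · rintro ⟨z, h⟩
    exact ⟨z, z.2, h⟩

end

section

variable {H W F : Type u} [Group H] [Finite H] [AddCommGroup W] [Finite W] [Nontrivial W]
  [DistribMulAction H W] [Field F] [Finite F] [Module F W] (D : Prim H W F)

/-- elements of `A` have no fixed points -/
theorem not_mem_A {z : H} (hz1 : z ≠ 1) {w : W} (hw : w ≠ 0) (hzw : z • w = w) : z ∉ D.A := by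
  intro hz
  have h1 := D.ι_spec ⟨z, hz⟩ w
  have h2 : z • w = ((D.ι ⟨z, hz⟩ : Fˣ) : F) • w := h1
  rw [hzw] at h2
  have h3 : (((D.ι ⟨z, hz⟩ : Fˣ) : F) - 1) • w = 0 := by
    rw [sub_smul, one_smul, ← h2, sub_self]
  have h4 := (smul_eq_zero.1 h3).resolve_right hw
  have h5 : D.ι ⟨z, hz⟩ = 1 := Units.ext (sub_eq_zero.1 h4)
  have h6 : (⟨z, hz⟩ : D.A) = 1 := D.ι_inj (by rw [h5, map_one])
  exact hz1 (congrArg Subtype.val h6)

/-- the elements of order `5` of `C(A)` inject into `C(A) / A` if `5` does not divide `|A|` -/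
theorem card_Z_le (Z : Set H) (hZC : ∀ z ∈ Z, z ∈ centralizer (D.A : Set H)) (hZ5 : ∀ z ∈ Z, z ^ 5 = 1)
    (h5 : ¬ 5 ∣ Nat.card D.A) : Nat.card Z ≤ D.A.relIndex (centralizer (D.A : Set H)) := by
  have h1 : D.A.relIndex (centralizer (D.A : Set H)) =
      Nat.card (centralizer (D.A : Set H) ⧸ D.A.subgroupOf (centralizer (D.A : Set H))) := rfl
  rw [h1]
  refine Nat.card_le_card_of_injective (fun z => QuotientGroup.mk (⟨z, hZC z z.2⟩ : centralizer (D.A : Set H))) ?_
  intro z z' h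
  have h2 := QuotientGroup.eq.1 h
  rw [mem_subgroupOf] at h2
  have h3 : (z : H)⁻¹ * z' ∈ D.A := h2
  have h4 : Commute (z : H) ((z : H)⁻¹ * z') := by
    have := mem_centralizer_iff.1 (hZC z z.2) _ h3
    exact this.symm
  have h5' : ((z : H)⁻¹ * z') ^ 5 = 1 := by
    have h6 := h4.mul_pow 5
    rw [mul_inv_cancel_left, hZ5 z' z'.2, hZ5 z z.2, one_mul] at h6
    exact h6.symm
  have h6 : (z : H)⁻¹ * z' = 1 := by
    rw [← orderOf_eq_one_iff]
    exact Nat.eq_one_of_dvd_coprimes ((Nat.Prime.coprime_iff_not_dvd Nat.prime_five).2 h5)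
      (orderOf_dvd_of_pow_eq_one h5') (orderOf_dvd_natCard _ h3)
  exact Subtype.ext (inv_mul_eq_one.1 h6)

/-- **the number of bad vectors** -/
theorem bad_le (B : Set W) (x t n : ℕ)
    (hB : ∀ w ∈ B, w ≠ 0 → (∃ z ∈ centralizer (D.A : Set H), z ^ 5 = 1 ∧ z ∉ D.A ∧ z • w = w ∧
      Nat.card {w : W // z • w = w} ≤ x) ∨ (∃ z, z ∉ centralizer (D.A : Set H) ∧ z ^ 5 = 1 ∧ z • w = w ∧
      Nat.card {w : W // z • w = w} ≤ t))
    (hn : ∀ Z : Set H, (∀ z ∈ Z, z ∈ centralizer (D.A : Set H)) → (∀ z ∈ Z, z ^ 5 = 1) → Nat.card Z ≤ n) :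
    4 * Nat.card B ≤ 4 + n * x +
      4 * (Nat.card {z : H | z ∉ centralizer (D.A : Set H) ∧ z ^ 5 = 1} * t) := by
  classical
  set Z1 : Set H := {z | z ∈ centralizer (D.A : Set H) ∧ z ^ 5 = 1 ∧ z ∉ D.A ∧ Nat.card {w : W // z • w = w} ≤ x} with hZ1
  set Z2 : Set H := {z | (z ∉ centralizer (D.A : Set H) ∧ z ^ 5 = 1) ∧ Nat.card {w : W // z • w = w} ≤ t} with hZ2
  have h1 := count_four (W := W) Z1 (fun z hz => ⟨hz.2.1, fun h => hz.2.2.1 (h ▸ D.A.one_mem)⟩) (by
      rintro z ⟨hz, hz5, hzA, hzx⟩ i hi hi4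
      refine ⟨(centralizer (D.A : Set H)).pow_mem hz i, by rw [← pow_mul, mul_comm, pow_mul, hz5, one_pow], ?_, ?_⟩
      · intro h
        apply hzA
        obtain ⟨n, m, hn⟩ : ∃ n m : ℕ, i * n = 5 * m + 1 := by
          interval_cases i
          · exact ⟨1, 0, by norm_num⟩
          · exact ⟨3, 1, by norm_num⟩
          · exact ⟨2, 1, by norm_num⟩
          · exact ⟨4, 3, by norm_num⟩
        have h2 := D.A.pow_mem h n
        rwa [← pow_mul, hn, pow_add, pow_mul, hz5, one_pow, one_mul, pow_one] at h2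
      · rwa [Nat.card_congr (Equiv.subtypeEquivRight fun w => fix_pow (W := W) hz5 hi hi4 w)]) (x := x)
    (fun z hz => hz.2.2.2)
  have h2 := count_any (W := W) Z2 (t := t) (fun z hz => hz.2)
  have h3 : Nat.card Z1 ≤ n := hn Z1 (fun z hz => hz.1) (fun z hz => hz.2.1)
  have h4 : Nat.card Z2 ≤ Nat.card {z : H | z ∉ centralizer (D.A : Set H) ∧ z ^ 5 = 1} :=
    Nat.card_le_card_of_injective (fun z => ⟨z.1, z.2.1⟩) fun a b h => Subtype.ext (by
      simp only [Subtype.mk.injEq] at h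
      exact h)
  have h5 : Nat.card B ≤ 1 + Nat.card {w : W // ∃ z ∈ Z1, z • w = w} + Nat.card {w : W // ∃ z ∈ Z2, z • w = w} := by
    have h6 : 1 + Nat.card {w : W // ∃ z ∈ Z1, z • w = w} + Nat.card {w : W // ∃ z ∈ Z2, z • w = w} =
        Nat.card ((Unit ⊕ {w : W // ∃ z ∈ Z1, z • w = w}) ⊕ {w : W // ∃ z ∈ Z2, z • w = w}) := by
      have hu : Nat.card Unit = 1 := Nat.card_unique
      rw [Nat.card_sum, Nat.card_sum, hu]
    rw [h6]
    have h7 : ∀ w ∈ B, w ≠ 0 → (∃ z ∈ Z1, z • w = w) ∨ (∃ z ∈ Z2, z • w = w) := by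
      intro w hw hw0
      rcases hB w hw hw0 with ⟨z, hz, hz5, hzA, hzw, hzx⟩ | ⟨z, hz, hz5, hzw, hzt⟩
      · exact Or.inl ⟨z, ⟨hz, hz5, hzA, hzx⟩, hzw⟩
      · exact Or.inr ⟨z, ⟨⟨hz, hz5⟩, hzt⟩, hzw⟩
    refine Nat.card_le_card_of_injective (fun w : B => if h0 : (w : W) = 0 then Sum.inl (Sum.inl ()) else
      if h1 : ∃ z ∈ Z1, z • (w : W) = w then Sum.inl (Sum.inr ⟨w, h1⟩) else
        Sum.inr ⟨w, (h7 w w.2 h0).resolve_left h1⟩) ?_
    intro a b hab
    dsimp only at hab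
    split_ifs at hab with i1 i2 <;> first
      | exact Subtype.ext (i1.trans i2.symm)
      | (have h8 := Sum.inr.inj (Sum.inl.inj hab); simp only [Subtype.mk.injEq] at h8; exact Subtype.ext h8)
      | (have h8 := Sum.inr.inj hab; simp only [Subtype.mk.injEq] at h8; exact Subtype.ext h8)
      | exact absurd (Sum.inl.inj hab) Sum.inl_ne_inr
      | exact absurd (Sum.inl.inj hab) Sum.inr_ne_inl
  have h6 : Nat.card Z1 * x ≤ n * x := Nat.mul_le_mul_right _ h3
  have h7 : Nat.card Z2 * t ≤ Nat.card {z : H | z ∉ centralizer (D.A : Set H) ∧ z ^ 5 = 1} * t := Nat.mul_le_mul_right _ h4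
  omega

end

end Cfsg.Agent.H527.RC.Pr5

/-!
## S4191, task PR5: primitive linear groups, `p = 5`
-/

namespace Cfsg.Agent.H527.RC.Pr5

open scoped Pointwise commutatorElement
open Cfsg Cfsg.Agent.Lib.Cores Subgroup
open Cfsg.Agent.H527.RC Cfsg.Agent.H822.Cls Cfsg.Agent.H668.Dim

universe u

section

variable {H W F : Type u} [Group H] [Finite H] [AddCommGroup W] [Finite W] [Nontrivial W]
  [DistribMulAction H W] [Field F] [Finite F] [Module F W] (D : Prim H W F)

theorem relIndex_AC : D.A.relIndex (centralizer (D.A : Set H)) =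
    D.A.relIndex D.S * D.S.relIndex (centralizer (D.A : Set H)) :=
  (Subgroup.relIndex_mul_relIndex _ _ _ D.A_le D.S_le).symm

theorem card_C : Nat.card (centralizer (D.A : Set H)) =
    Nat.card D.A * D.A.relIndex (centralizer (D.A : Set H)) :=
  (card_mul_relIndex' (D.A_le.trans D.S_le)).symm

theorem card_A_dvd : Nat.card D.A ∣ Nat.card F - 1 := by
  rw [← Nat.card_units]
  exact Subgroup.card_dvd_of_injective D.ι D.ι_inj

theorem card_H : Nat.card H = (centralizer (D.A : Set H)).index * Nat.card (centralizer (D.A : Set H)) := by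
  rw [mul_comm, Subgroup.card_mul_index]

theorem card_C_le {c : ℕ} (hc : D.A.relIndex (centralizer (D.A : Set H)) ≤ c) :
    Nat.card (centralizer (D.A : Set H)) ≤ (Nat.card F - 1) * c := by
  rw [card_C]
  have hf2 : 2 ≤ Nat.card F := Finite.one_lt_card
  exact Nat.mul_le_mul (Nat.le_of_dvd (by omega) (card_A_dvd D)) hc

theorem card_H_le {c : ℕ} (hc : D.A.relIndex (centralizer (D.A : Set H)) ≤ c) :
    Nat.card H ≤ Nat.totient (Nat.card F - 1) * ((Nat.card F - 1) * c) := by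
  rw [card_H D]
  have hf2 : 2 ≤ Nat.card F := Finite.one_lt_card
  exact Nat.mul_le_mul (Nat.le_of_dvd (Nat.totient_pos.2 (by omega)) (index_cent_dvd D)) (card_C_le D hc)

theorem card_H_le' {c : ℕ} (hc : D.A.relIndex (centralizer (D.A : Set H)) ≤ c) :
    Nat.card H ≤ Nat.card F * (Nat.card F * c) := by
  refine (card_H_le D hc).trans (Nat.mul_le_mul ?_ (Nat.mul_le_mul_right _ (Nat.sub_le _ _)))
  exact (Nat.totient_le _).trans (Nat.sub_le _ _)

/-- special case, small fields -/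
theorem special_small {c f d : ℕ} (hf : Nat.card F = f) (hV : Nat.card W = f ^ d)
    (hc : D.A.relIndex (centralizer (D.A : Set H)) ≤ c)
    (hfix : ∀ z ∈ centralizer (D.A : Set H), z ^ 5 = 1 → z ∉ D.A → Nat.card {w : W // z • w = w} ^ 45 ≤ (f ^ d) ^ 13)
    (B : Set W) (hB : ∀ w ∈ B, w ≠ 0 → ∃ z : H, z ^ 5 = 1 ∧ z ≠ 1 ∧ z • w = w)
    (h1 : ¬ 5 ∣ Nat.totient (f - 1)) (h2 : ¬ 5 ∣ f - 1)
    (hnum : ∀ x b h : ℕ, x ^ 45 ≤ (f ^ d) ^ 13 → 4 * b ≤ 4 + c * x → h ≤ Nat.totient (f - 1) * ((f - 1) * c) →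
      b + h < f ^ d) : Nat.card B + Nat.card H < Nat.card W := by
  obtain ⟨x, hx, hxm⟩ := exists_max 45 ((f ^ d) ^ 13) (by norm_num)
  have hb := bad_le D B x 0 c (by
      intro w hw hw0
      obtain ⟨z, hz5, hz1, hzw⟩ := hB w hw hw0
      left
      have hzC := mem_cent_of_pel D Nat.prime_five (y := z) ⟨1, by rw [pow_one]; exact hz5⟩ (by rw [hf]; exact h1)
      have hzA := not_mem_A D hz1 hw0 hzw
      exact ⟨z, hzC, hz5, hzA, hzw, hxm _ (hfix z hzC hz5 hzA)⟩)
    (fun Z hZ hZ5 => (card_Z_le D Z hZ hZ5 (fun h => h2 (by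
      rw [← hf]
      exact h.trans (card_A_dvd D)))).trans hc)
  rw [hV]
  refine hnum x _ _ hx (by omega) ?_
  have := card_H_le D hc
  rwa [hf] at this

/-- special case, large fields -/
theorem special_large {c f d : ℕ} (hf : Nat.card F = f) (hV : Nat.card W = f ^ d)
    (hc : D.A.relIndex (centralizer (D.A : Set H)) ≤ c)
    (hfix : ∀ z ∈ centralizer (D.A : Set H), z ^ 5 = 1 → z ∉ D.A → Nat.card {w : W // z • w = w} ^ 45 ≤ (f ^ d) ^ 13)
    (B : Set W) (hB : ∀ w ∈ B, w ≠ 0 → ∃ z : H, z ^ 5 = 1 ∧ z ≠ 1 ∧ z • w = w)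
    (hnum : ∀ x t b h : ℕ, x ^ 45 ≤ (f ^ d) ^ 13 → t ^ 5 ≤ f ^ d → 1 ≤ t →
      4 * b ≤ 4 + (f * c) * x + 4 * (h * t) → h ≤ f * (f * c) →
      b + h < f ^ d) : Nat.card B + Nat.card H < Nat.card W := by
  obtain ⟨x, hx, hxm⟩ := exists_max 45 ((f ^ d) ^ 13) (by norm_num)
  obtain ⟨t, ht, htm⟩ := exists_max 5 (f ^ d) (by norm_num)
  have ht1 : 1 ≤ t := htm 1 (by rw [one_pow, ← hV]; exact Nat.card_pos)
  have hb := bad_le D B x t (f * c) (by
      intro w hw hw0
      obtain ⟨z, hz5, hz1, hzw⟩ := hB w hw hw0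
      by_cases hzC : z ∈ centralizer (D.A : Set H)
      · left
        have hzA := not_mem_A D hz1 hw0 hzw
        exact ⟨z, hzC, hz5, hzA, hzw, hxm _ (hfix z hzC hz5 hzA)⟩
      · right
        refine ⟨z, hzC, hz5, hzw, htm _ ?_⟩
        rw [← hV]
        exact fixedPow H W F D 5 Nat.prime_five z ⟨1, by rw [pow_one]; exact hz5⟩ hzC)
    (fun Z hZ _ => by
      have h1 : Nat.card Z ≤ Nat.card (centralizer (D.A : Set H)) :=
        Nat.card_le_card_of_injective (fun z => ⟨z.1, hZ z z.2⟩) fun a b h => Subtype.ext (by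
          simp only [Subtype.mk.injEq] at h
          exact h)
      refine h1.trans ((card_C_le D hc).trans (Nat.mul_le_mul_right _ ?_))
      rw [hf]
      exact Nat.sub_le _ _)
  have h2 : Nat.card {z : H | z ∉ centralizer (D.A : Set H) ∧ z ^ 5 = 1} ≤ Nat.card H :=
    Nat.card_le_card_of_injective (fun z => z.1) fun a b h => Subtype.ext h
  have h3 := Nat.mul_le_mul_right t h2
  rw [hV]
  refine hnum x t _ _ hx ht ht1 (by omega) ?_
  have := card_H_le' D hc
  rwa [hf] at this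

variable {p : ℕ} {L : Subgroup H}

/-- facts on `c(z)` -/
theorem c_facts (hL : LP 5 L) (hfaith : ∀ h : H, (∀ w : W, h • w = w) → h = 1)
    (hirr : ∀ X : AddSubgroup W, (∀ g ∈ L, ∀ w ∈ X, g • w ∈ X) → X = ⊥ ∨ X = ⊤) {e : ℕ}
    (he : D.A.relIndex D.S = e ^ 2) {z : H} (hz : z ∈ centralizer (D.A : Set H)) (hz5 : z ^ 5 = 1) (hzA : z ∉ D.A) :
    D.A.relIndex (TS D z) ∣ e ^ 2 ∧ e ^ 2 ≡ D.A.relIndex (TS D z) [MOD 5] ∧ D.A.relIndex (TS D z) < e ^ 2 := by
  rw [← he]
  refine ⟨TS_dvd D z, TS_modEq D Nat.prime_five hz5, TS_lt D hz ?_⟩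
  intro h
  exact hzA (mem_A_of_pel D Nat.prime_five hL hfaith hirr h ⟨1, by rw [pow_one]; exact hz5⟩)

theorem fix_bound {e k f d : ℕ} (hf : Nat.card F = f) (hV : Nat.card W = f ^ d) (h5f : ¬ 5 ∣ f)
    (he : D.A.relIndex D.S = e ^ 2) {z : H} (hz : z ∈ centralizer (D.A : Set H)) (hz5 : z ^ 5 = 1) (hzA : z ∉ D.A)
    (hk : D.A.relIndex (TS D z) ≤ k ^ 2) :
    Nat.card {w : W // z • w = w} ^ (5 * e) ≤ (f ^ d) ^ (e + 4 * k) := by
  rw [← hV]
  exact Cfsg.Agent.H447.RC.fix_le' D Nat.prime_five (by rw [hf]; exact h5f) hz hz5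
    (fun h => hzA (h ▸ D.A.one_mem)) he (fun s => mem_TS D) hk

theorem val_nine {c : ℕ} (h1 : c ∣ 9 ^ 2) (h2 : 9 ^ 2 ≡ c [MOD 5]) (h3 : c < 9 ^ 2) : c ≤ 1 ^ 2 := by
  rcases dvd81 h1 with h | h | h | h | h
  · rw [h]; norm_num
  all_goals (exfalso; rw [h] at h2 h3; revert h2 h3; decide)

theorem val_27 {c : ℕ} (h1 : c ∣ 27 ^ 2) (h2 : 27 ^ 2 ≡ c [MOD 5]) (h3 : c < 27 ^ 2) : c ≤ 3 ^ 2 := by
  obtain ⟨j, hj, rfl⟩ := (Nat.dvd_prime_pow Nat.prime_three (m := 6)).1 (by norm_num; exact h1)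
  interval_cases j
  · norm_num
  · norm_num
  · norm_num
  all_goals (exfalso; revert h2 h3; decide)

theorem val_18 {c : ℕ} (h0 : 4 ∣ c) (h1 : c ∣ 18 ^ 2) (h2 : 18 ^ 2 ≡ c [MOD 5]) (h3 : c < 18 ^ 2) : c ≤ 2 ^ 2 := by
  obtain ⟨k, rfl⟩ := h0
  have h4 : k ∣ 81 := by
    have h5 : 4 * k ∣ 4 * 81 := by norm_num; exact h1
    exact Nat.dvd_of_mul_dvd_mul_left (by norm_num) h5
  rcases dvd81 h4 with h | h | h | h | h
  · rw [h]; norm_num
  all_goals (exfalso; rw [h] at h2 h3; revert h2 h3; decide)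

theorem val_32 {c : ℕ} (h1 : c ∣ 32 ^ 2) (h2 : 32 ^ 2 ≡ c [MOD 5]) (h3 : c ≤ 32) : c ≤ 2 ^ 2 := by
  obtain ⟨j, hj, rfl⟩ := (Nat.dvd_prime_pow Nat.prime_two (m := 10)).1 (by norm_num; exact h1)
  interval_cases j
  · norm_num
  · norm_num
  · norm_num
  all_goals (exfalso; revert h2 h3; decide)

/-- an element of `2`-part acting trivially -/
theorem XL_two_le (z : H) (hz5 : z ^ 5 = 1) (h : Nat.card (XQ D 2) < 5) : XL D 2 ≤ TS D z := by
  have h1 : rho D 2 z = 1 := eq_one_of_small Nat.prime_five h _ (k := 1) (by rw [pow_one, ← map_pow, hz5, map_one])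
  intro s hs
  exact ⟨hs.1, (rho_eq_one_iff D z).1 h1 s hs.1 hs.2⟩

/-- `|C(A) : S| ≤ |range of rho|` if `Q = {q}` -/
theorem relIndex_le_range {Q : Finset ℕ} {m : ℕ → ℕ} (hD : D.Num Q m) {q : ℕ} (hQ : ∀ q' ∈ Q, q' = q) :
    D.S.relIndex (centralizer (D.A : Set H)) ≤ Nat.card (rho D q).range := by
  have h1 : (rho D q).ker ⊓ centralizer (D.A : Set H) ≤ D.S := by
    rintro x ⟨hx, hxA⟩
    refine mem_of_triv D hD hxA ?_
    intro q' hq'
    rw [hQ q' hq']
    exact (rho_eq_one_iff D x).1 hx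
  have h2 : D.S.relIndex (centralizer (D.A : Set H)) ∣
      ((rho D q).ker ⊓ centralizer (D.A : Set H)).relIndex (centralizer (D.A : Set H)) :=
    Subgroup.relIndex_dvd_of_le_left _ h1
  rw [Subgroup.inf_relIndex_right, Subgroup.relIndex_ker] at h2
  refine (Nat.le_of_dvd Nat.card_pos h2).trans ?_
  refine Subgroup.card_le_of_le ?_
  rw [MonoidHom.range_eq_map]
  exact Subgroup.map_mono le_top

end

end Cfsg.Agent.H527.RC.Pr5

/-!
## S4191, primitive linear groups: no elements of order `25` on `2 ^ 10`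
-/

namespace Cfsg.Agent.H527.RC.Pr5

open scoped Pointwise commutatorElement
open Cfsg Cfsg.Agent.Lib.Cores Subgroup
open Cfsg.Agent.H527.RC Cfsg.Agent.H822.Cls Cfsg.Agent.H668.Dim

universe u

theorem exists_mul_25 : ∀ k : ℕ, k < 25 → k ≠ 0 → ∃ n < 25, (k * n) % 25 = 5 := by decide

theorem dvd_card_25 {α : Type*} [Finite α] (f : Equiv.Perm α) (hf : f ^ 25 = 1) :
    25 ∣ Nat.card {a : α // (f ^ 5) a ≠ a} := by
  classical
  by_cases h5 : f ^ 5 = 1
  · have h1 : IsEmpty {a : α // (f ^ 5) a ≠ a} := ⟨fun ⟨a, ha⟩ => ha (by rw [h5]; rfl)⟩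
    rw [Nat.card_of_isEmpty]
    exact dvd_zero _
  have ho : orderOf f = 25 := by
    have h1 : orderOf f ∣ 5 ^ 2 := orderOf_dvd_of_pow_eq_one (by norm_num; exact hf)
    obtain ⟨j, hj, hj'⟩ := (Nat.dvd_prime_pow Nat.prime_five).1 h1
    interval_cases j
    · exfalso
      rw [pow_zero, orderOf_eq_one_iff] at hj'
      exact h5 (by rw [hj', one_pow])
    · exfalso
      rw [pow_one] at hj'
      exact h5 (by rw [← hj', pow_orderOf_eq_one])
    · rw [hj']; norm_num
  have hcomm : ∀ g ∈ zpowers f, ∀ a : α, (f ^ 5) (g a) = g ((f ^ 5) a) := by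
    rintro g ⟨i, rfl⟩ a
    rw [← Equiv.Perm.mul_apply, ← Equiv.Perm.mul_apply]
    congr 1
    exact (Commute.refl f).pow_left 5 |>.zpow_right i |>.eq
  letI : MulAction (zpowers f) {a : α // (f ^ 5) a ≠ a} :=
    { smul := fun g a => ⟨(g : Equiv.Perm α) a.1, fun h => a.2 (by
        rw [hcomm g g.2] at h
        exact (g : Equiv.Perm α).injective h)⟩
      one_smul := fun a => Subtype.ext rfl
      mul_smul := fun g h a => Subtype.ext rfl }
  have hst : ∀ a : {a : α // (f ^ 5) a ≠ a}, MulAction.stabilizer (zpowers f) a = ⊥ := by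
    intro a
    rw [eq_bot_iff]
    rintro ⟨g, hg⟩ hga
    rw [Subgroup.mem_bot]
    have h1 : g a.1 = a.1 := congrArg Subtype.val hga
    obtain ⟨k, hk, rfl⟩ := (mem_zpowers_iff_mem_range_orderOf.1 hg : g ∈ Finset.image (f ^ ·) (Finset.range (orderOf f))) |> Finset.mem_image.1 |> fun ⟨k, hk, h⟩ => (⟨k, Finset.mem_range.1 hk, h⟩ : ∃ k, k < orderOf f ∧ f ^ k = g)
    by_contra hne
    have hk0 : k ≠ 0 := by
      rintro rfl
      exact hne (Subtype.ext (pow_zero f))
    obtain ⟨n, -, hn⟩ := exists_mul_25 k (by omega) hk0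
    apply a.2
    have h2 : f ^ 5 = (f ^ k) ^ n := by
      rw [← pow_mul, ← pow_mod_orderOf f (k * n), ho, hn]
    have h3 : ∀ m : ℕ, ((f ^ k) ^ m) a.1 = a.1 := by
      intro m
      induction m with
      | zero => rfl
      | succ m ih => rw [pow_succ', Equiv.Perm.mul_apply, ih, h1]
    exact (DFunLike.congr_fun h2 a.1).trans (h3 n)
  have h2 := Nat.card_congr (MulAction.selfEquivOrbitsQuotientProd hst)
  rw [Nat.card_prod, Nat.card_zpowers, ho] at h2
  rw [h2]
  exact Dvd.intro_left _ rfl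

section

variable {H W F : Type u} [Group H] [Finite H] [AddCommGroup W] [Finite W] [Nontrivial W]
  [DistribMulAction H W] [Field F] [Finite F] [Module F W] (D : Prim H W F)

theorem val_1024 {c : ℕ} (h1 : c ∣ 32 ^ 2) (h2 : 32 ^ 2 ≡ c [MOD 5]) (h3 : c < 32 ^ 2) (h4 : 25 ∣ 32 ^ 2 - c) :
    False := by
  obtain ⟨j, hj, rfl⟩ := (Nat.dvd_prime_pow Nat.prime_two (m := 10)).1 (by norm_num; exact h1)
  interval_cases j
  all_goals (revert h2 h3 h4; decide)

theorem order_five {L : Subgroup H} (hL : LP 5 L) (hfaith : ∀ h : H, (∀ w : W, h • w = w) → h = 1)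
    (hirr : ∀ X : AddSubgroup W, (∀ g ∈ L, ∀ w ∈ X, g • w ∈ X) → X = ⊥ ∨ X = ⊤)
    (he : D.A.relIndex D.S = 32 ^ 2) (hA : ¬ 5 ∣ Nat.card D.A) {y : H} (hy : y ∈ centralizer (D.A : Set H))
    (hyp : PEl 5 y) : y ^ 5 = 1 := by
  by_contra hcon
  -- an element of order `25`
  obtain ⟨k, hk⟩ := hyp
  obtain ⟨j, -, hj⟩ := (Nat.dvd_prime_pow Nat.prime_five).1 (orderOf_dvd_of_pow_eq_one hk)
  have hj2 : 2 ≤ j := by
    by_contra h
    apply hcon
    apply orderOf_dvd_iff_pow_eq_one.1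
    rw [hj]
    calc 5 ^ j ∣ 5 ^ 1 := pow_dvd_pow 5 (by omega)
      _ = 5 := by norm_num
  set x := y ^ 5 ^ (j - 2) with hx
  have hx25 : x ^ 25 = 1 := by
    rw [hx, ← pow_mul]
    have : 5 ^ (j - 2) * 25 = 5 ^ j := by
      have h1 : (25 : ℕ) = 5 ^ 2 := by norm_num
      rw [h1, ← pow_add]
      congr 1
      omega
    rw [this, ← hj, pow_orderOf_eq_one]
  have hx5 : x ^ 5 ≠ 1 := by
    intro h
    rw [hx, ← pow_mul] at h
    have h1 := orderOf_dvd_of_pow_eq_one h
    rw [hj] at h1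
    have h2 : 5 ^ (j - 2) * 5 = 5 ^ (j - 1) := by
      rw [← pow_succ]
      congr 1
      omega
    rw [h2] at h1
    have h3 := (Nat.pow_dvd_pow_iff_le_right (by norm_num : 1 < 5)).1 h1
    omega
  have hz5 : (x ^ 5) ^ 5 = 1 := by rw [← pow_mul]; exact hx25
  have hzC : x ^ 5 ∈ centralizer (D.A : Set H) :=
    Subgroup.pow_mem _ (Subgroup.pow_mem _ hy _) _
  have hzA : x ^ 5 ∉ D.A := by
    intro h
    apply hx5
    rw [← orderOf_eq_one_iff]
    exact Nat.eq_one_of_dvd_coprimes ((Nat.Prime.coprime_iff_not_dvd Nat.prime_five).2 hA)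
      (orderOf_dvd_of_pow_eq_one hz5) (orderOf_dvd_natCard _ h)
  obtain ⟨h1, h2, h3⟩ := c_facts D hL hfaith hirr he hzC hz5 hzA
  refine val_1024 h1 h2 h3 ?_
  have h4 := dvd_card_25 (MulAut.toPerm (SQ D) (rhoS D x)) (by rw [← map_pow, ← map_pow, hx25, map_one, map_one])
  have h5 : Nat.card {a : SQ D // ((MulAut.toPerm (SQ D) (rhoS D x)) ^ 5) a ≠ a} =
      Nat.card (SQ D) - Nat.card {a : SQ D // rhoS D (x ^ 5) a = a} := by
    classical
    have := Fintype.ofFinite (SQ D)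
    rw [Nat.card_eq_fintype_card, Nat.card_eq_fintype_card, Nat.card_eq_fintype_card, ← Fintype.card_subtype_compl]
    refine Fintype.card_congr (Equiv.subtypeEquivRight fun a => ?_)
    rw [← map_pow, ← map_pow]
    rfl
  rw [h5, card_SQ, card_fixed, he] at h4
  exact h4

end

end Cfsg.Agent.H527.RC.Pr5

/-!
## S4191, task PR5: `CorePrim 5 1 0 2`
-/

namespace Cfsg.Agent.H527.RC.Pr5

open scoped Pointwise commutatorElement
open Cfsg Cfsg.Agent.Lib.Cores Subgroup
open Cfsg.Agent.H527.RC Cfsg.Agent.H822.Cls Cfsg.Agent.H668.Dim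
open Cfsg.Agent.H699.RC (card_bad_le orbs_two_of_card bad_dim exists_moved)

universe u

section

variable {H W F : Type u} [Group H] [Finite H] [Group.IsSolvable H] [AddCommGroup W] [Finite W] [Nontrivial W]
  [DistribMulAction H W] [Field F] [Finite F] [Module F W] (D : Prim H W F)

/-- the general case -/
theorem general {L : Subgroup H} (hL : LP 5 L) (hfaith : ∀ h : H, (∀ w : W, h • w = w) → h = 1)
    (hirr : ∀ X : AddSubgroup W, (∀ g ∈ L, ∀ w ∈ X, g • w ∈ X) → X = ⊥ ∨ X = ⊤)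
    {Q : Finset ℕ} {m : ℕ → ℕ} (hD : D.Num Q m) {f e d : ℕ} (hf : Nat.card F = f) (hV : Nat.card W = f ^ d)
    (he : e = ∏ q ∈ Q, q ^ m q) (hed : e ≤ d) (hk : 4 * e ^ 16 ≤ f ^ (e - 2)) (hf3 : 3 ≤ f) (he27 : 27 ≤ e)
    (hC6 : D.S.relIndex (centralizer (D.A : Set H)) ≤ e ^ 6) :
    Nat.card {w : W | ¬ Gd 5 1 L w} + Nat.card H < Nat.card W := by
  classical
  have h5 := Nat.prime_five
  have hpQ := not_mem_Q D h5 hL hfaith hirr hD
  have hrel := hD.relIndex
  rw [← he] at hrel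
  have hc : D.A.relIndex (centralizer (D.A : Set H)) ≤ e ^ 8 := by
    rw [relIndex_AC, hrel]
    calc e ^ 2 * D.S.relIndex (centralizer (D.A : Set H)) ≤ e ^ 2 * e ^ 6 := Nat.mul_le_mul_left _ hC6
      _ = e ^ 8 := by ring
  obtain ⟨s, hs, hsm⟩ := exists_max 2 (f ^ d) (by norm_num)
  obtain ⟨t, ht, htm⟩ := exists_max 5 (f ^ d) (by norm_num)
  have ht1 : 1 ≤ t := htm 1 (by rw [one_pow, ← hV]; exact Nat.card_pos)
  set Y : Set H := {y | PEl 5 y ∧ ¬ FH 1 (⁅L, Subgroup.zpowers y⁆ : Subgroup H)} with hY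
  have hb := card_bad_le (W := W) (centralizer (D.A : Set H)) Y (s := s) (t := t)
    (by
      intro y hy hyC
      obtain ⟨q, hqQ, hqp, hq, -, -⟩ := bad_dim D h5 hL hirr hfaith hD hy.1 hy.2
      obtain ⟨k, hk⟩ := hy.1
      obtain ⟨j, -, hj⟩ := (Nat.dvd_prime_pow h5).1 (orderOf_dvd_of_pow_eq_one hk)
      have h1 := fixedSq H W F D y hyC
        (by rw [hj]; exact (h5.odd_of_ne_two (by norm_num)).pow)
        (by
          rw [hj, hD.relIndex]
          refine Nat.Coprime.pow_left _ (Nat.Coprime.pow_right _ ?_)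
          refine Nat.Coprime.prod_right fun q hq => Nat.Coprime.pow_right _ ?_
          rw [Nat.coprime_primes h5 (hD.prime q hq)]
          rintro rfl
          exact hpQ hq) (exists_moved D hq)
      apply hsm
      rw [← hV]
      exact h1)
    (by
      intro y hy hyC
      apply htm
      rw [← hV]
      exact fixedPow H W F D 5 h5 y hy.1 hyC)
  have hB : Nat.card {w : W | ¬ Gd 5 1 L w} ≤ Nat.card {w : W // ∃ y ∈ Y, y • w = w} := by
    refine Nat.card_le_card_of_injective (fun w => ⟨w.1, ?_⟩) fun a b h => Subtype.ext (by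
      simp only [Subtype.mk.injEq] at h
      exact h)
    have hw : ¬ Gd 5 1 L w.1 := w.2
    unfold Gd at hw
    push Not at hw
    obtain ⟨y, hy, hyw, hyb⟩ := hw
    exact ⟨y, ⟨hy, hyb⟩, hyw⟩
  have hCc : Nat.card (centralizer (D.A : Set H)) ≤ f * e ^ 8 := by
    refine (card_C_le D hc).trans (Nat.mul_le_mul_right _ ?_)
    rw [hf]
    exact Nat.sub_le _ _
  have hHc : Nat.card H ≤ f * (f * e ^ 8) := by
    have := card_H_le' D hc
    rwa [hf] at this
  have h6 := count_general hk hf3 he27 hed hCc hHc hs ht ht1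
  rw [hV]
  omega

/-- the case `e = 32`, `f = 3` -/
theorem case32 {L : Subgroup H} (hL : LP 5 L) (hfaith : ∀ h : H, (∀ w : W, h • w = w) → h = 1)
    (hirr : ∀ X : AddSubgroup W, (∀ g ∈ L, ∀ w ∈ X, g • w ∈ X) → X = ⊥ ∨ X = ⊤)
    {Q : Finset ℕ} {m : ℕ → ℕ} (hD : D.Num Q m) {d : ℕ} (hf : Nat.card F = 3) (hV : Nat.card W = 3 ^ d)
    (he : 32 = ∏ q ∈ Q, q ^ m q) (hed : 32 ≤ d)
    (hC6 : D.S.relIndex (centralizer (D.A : Set H)) ≤ 32 ^ 6) :
    Nat.card {w : W | ¬ Gd 5 1 L w} + Nat.card H < Nat.card W := by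
  classical
  have h5 := Nat.prime_five
  have hpQ := not_mem_Q D h5 hL hfaith hirr hD
  have hrel := hD.relIndex
  rw [← he] at hrel
  have hc : D.A.relIndex (centralizer (D.A : Set H)) ≤ 32 ^ 8 := by
    rw [relIndex_AC, hrel]
    calc 32 ^ 2 * D.S.relIndex (centralizer (D.A : Set H)) ≤ 32 ^ 2 * 32 ^ 6 := Nat.mul_le_mul_left _ hC6
      _ = 32 ^ 8 := by ring
  have hcent : centralizer (D.A : Set H) = ⊤ := by
    have h4 := index_cent_dvd D
    rw [hf] at h4
    have h6 : (centralizer (D.A : Set H)).index = 1 := Nat.dvd_one.1 h4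
    exact Subgroup.index_eq_one.1 h6
  have hA2 : Nat.card D.A ∣ 2 := by
    have := card_A_dvd D
    rwa [hf] at this
  have hA5 : ¬ 5 ∣ Nat.card D.A := fun h => by
    have := h.trans hA2
    norm_num at this
  -- `Q = {2}`
  have hQ2 : ∀ q ∈ Q, q = 2 := by
    intro q hq
    have h1 := hD.dvd q hq
    rw [hf] at h1
    exact (Nat.prime_dvd_prime_iff_eq (hD.prime q hq) Nat.prime_two).1 h1
  obtain ⟨x, hx, hxm⟩ := exists_max 4 (3 ^ d) (by norm_num)
  have hb := bad_le D {w : W | ¬ Gd 5 1 L w} x 0 (2 ^ 40) (by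
      intro w hw hw0
      left
      have hw : ¬ Gd 5 1 L w := hw
      unfold Gd at hw
      push Not at hw
      obtain ⟨y, hy, hyw, hyb⟩ := hw
      rw [FH.one_iff] at hyb
      have hyC : y ∈ centralizer (D.A : Set H) := by rw [hcent]; trivial
      have hy5 := order_five D hL hfaith hirr hrel hA5 hyC hy
      have hy1 : y ≠ 1 := by
        rintro rfl
        apply hyb
        rw [Subgroup.zpowers_one_eq_bot, Subgroup.commutator_bot_right]
        infer_instance
      have hyA := not_mem_A D hy1 hw0 hyw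
      refine ⟨y, hyC, hy5, hyA, hyw, hxm _ ?_⟩
      -- fixed points on `S / A`
      obtain ⟨q, hqQ, hqp, r, hr, hrp, hrq, R, hR, hRL, hRy, hRne⟩ := sec D h5 hL hD hpQ hy hyb
      have hq2 := hQ2 q hqQ
      subst hq2
      have hRr : R ≤ (rho D 2).range := hRL.trans (by
        rw [MonoidHom.range_eq_map]
        exact Subgroup.map_mono le_top)
      have hm2 : 2 ^ m 2 = 32 := by
        have hQ : Q = {2} := by
          ext a
          rw [Finset.mem_singleton]
          exact ⟨hQ2 a, fun h => h ▸ hqQ⟩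
        rw [hQ, Finset.prod_singleton] at he
        exact he.symm
      have hm5 : m 2 = 5 := by
        have h1 : (2 : ℕ) ^ m 2 = 2 ^ 5 := by rw [hm2]; norm_num
        exact Nat.pow_right_injective (le_refl 2) h1
      have h2 := c_two D h5 (by norm_num) hD hqQ hy hr hrp hrq hR hRr hRy hRne
      have hXS : XL D 2 = D.S := by
        have h3 := hD.card_part 2 hqQ (XL D 2) (fun s => mem_XL D)
        rw [hm5] at h3
        have h4 : XL D 2 ≤ D.S := fun s hs => hs.1
        have hAX : D.A ≤ XL D 2 := fun a ha => ⟨D.A_le ha, D.A.pow_mem ha 2⟩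
        have h6 := Subgroup.relIndex_mul_relIndex _ _ _ hAX h4
        rw [h3, hrel] at h6
        apply le_antisymm h4
        rw [← Subgroup.relIndex_eq_one]
        have h7 : 2 ^ (2 * 5) * (XL D 2).relIndex D.S = 2 ^ (2 * 5) * 1 := by rw [h6]; norm_num
        exact Nat.eq_of_mul_eq_mul_left (by norm_num) h7
      rw [hXS, inf_eq_left.2 (TS_le D y), hm5] at h2
      obtain ⟨h7, h8, -⟩ := c_facts D hL hfaith hirr hrel hyC hy5 hyA
      have h9 := val_32 h7 h8 (by
        norm_num at h2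
        omega)
      have h10 := fix_bound D hf hV (by norm_num) hrel hyC hy5 hyA h9
      have h11 : (Nat.card {w : W // y • w = w} ^ 4) ^ 40 ≤ (3 ^ d) ^ 40 := by
        rw [← pow_mul]
        exact h10
      exact (Nat.pow_le_pow_iff_left (by norm_num)).1 h11)
    (fun Z hZ hZ5 => (card_Z_le D Z hZ hZ5 hA5).trans (hc.trans (by norm_num)))
  have hHc : Nat.card H ≤ 2 ^ 41 := by
    have := card_H_le D hc
    rw [hf] at this
    refine this.trans ?_
    have h1 : Nat.totient (3 - 1) = 1 := by decide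
    rw [h1]
    norm_num
  rw [hV]
  exact thirtytwo hed hx (by omega) hHc

/-- the case `e = 9` : the order of `C(A) / A` -/
theorem case9 {L : Subgroup H} (hL : LP 5 L) (hfaith : ∀ h : H, (∀ w : W, h • w = w) → h = 1)
    (hirr : ∀ X : AddSubgroup W, (∀ g ∈ L, ∀ w ∈ X, g • w ∈ X) → X = ⊥ ∨ X = ⊤)
    {Q : Finset ℕ} {m : ℕ → ℕ} (hD : D.Num Q m)
    (he : 9 = ∏ q ∈ Q, q ^ m q) {y : H} (hy : PEl 5 y)
    (hyb : ¬ FH 1 (⁅L, Subgroup.zpowers y⁆ : Subgroup H)) :
    D.A.relIndex (centralizer (D.A : Set H)) ≤ 12960 := by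
  classical
  have h5 := Nat.prime_five
  have hpQ := not_mem_Q D h5 hL hfaith hirr hD
  have hrel := hD.relIndex
  rw [← he] at hrel
  rw [FH.one_iff] at hyb
  have hQ3 : ∀ q ∈ Q, q = 3 := by
    intro q hq
    have h1 : q ^ m q ∣ 9 := by
      rw [he]
      exact Finset.dvd_prod_of_mem _ hq
    have hm1 := hD.one_le q hq
    have h2 : q ∣ 3 ^ 2 := (dvd_pow_self q (show m q ≠ 0 by omega)).trans (by norm_num; exact h1)
    exact (Nat.prime_dvd_prime_iff_eq (hD.prime q hq) Nat.prime_three).1 ((hD.prime q hq).dvd_of_dvd_pow h2)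
  obtain ⟨q, hqQ, hqp, r, hr, hrp, hrq, R, hR, hRL, hRy, x, hxR, hxne⟩ := sec D h5 hL hD hpQ hy hyb
  have hq3 := hQ3 q hqQ
  subst hq3
  have hm3 : m 3 = 2 := by
    have hQ : Q = {3} := by
      ext a
      rw [Finset.mem_singleton]
      exact ⟨hQ3 a, fun h => h ▸ hqQ⟩
    rw [hQ, Finset.prod_singleton] at he
    have h1 : (3 : ℕ) ^ m 3 = 3 ^ 2 := by rw [← he]; norm_num
    exact Nat.pow_right_injective (by norm_num) h1
  obtain ⟨l, ⟨hlL, -⟩, rfl⟩ := hRL hxR
  -- the group induced on `X_3`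
  let _ := act (rho D 3).range.subtype
  have hXf : Finite (Additive (XQ D 3)) := inferInstanceAs (Finite (XQ D 3))
  have hGs : Group.IsSolvable (rho D 3).range := Group.isSolvable_of_surjective (rho D 3).rangeRestrict_surjective
  have hLn := hL.normal
  have h160 : Nat.card (rho D 3).range ≤ 160 := by
    refine sp43 (K := (rho D 3).range) (X := Additive (XQ D 3)) (fun x => cl_pow D 3 x.toMul) ?_ ?_
      (L := L.map (rho D 3).rangeRestrict) ?_ (y := (rho D 3).rangeRestrict y) ?_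
      (l := (rho D 3).rangeRestrict l) ⟨l, hlL, rfl⟩ ?_
    · have h1 : Nat.card (Additive (XQ D 3)) = 3 ^ (2 * m 3) := card_XQ D hD hqQ
      rw [h1, hm3]
      norm_num
    · intro g hg
      refine Subtype.ext ?_
      ext x
      exact congrArg Subtype.val (hg (Additive.ofMul x))
    · refine ⟨hLn.map _ (rho D 3).rangeRestrict_surjective, ?_, ?_⟩
      · intro h
        exact hL.cop (h.trans (Subgroup.card_map_dvd L _))
      · rintro ⟨_, h, rfl⟩
        obtain ⟨k, hk⟩ := hL.isP h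
        exact ⟨k, h ^ 5 ^ k, hk, by rw [map_pow]; rfl⟩
    · obtain ⟨k, hk⟩ := hy
      exact ⟨k, by rw [← map_pow, hk, map_one]⟩
    · intro h
      apply hxne
      have := congrArg Subtype.val h
      exact this
  have h1 := relIndex_le_range D hD hQ3
  rw [relIndex_AC, hrel]
  calc 9 ^ 2 * D.S.relIndex (centralizer (D.A : Set H)) ≤ 9 ^ 2 * 160 := Nat.mul_le_mul_left _ (h1.trans h160)
    _ = 12960 := by norm_num

end

/-- **PR5** -/
theorem corePrim_five : CorePrim.{u} 5 1 0 2 := by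
  classical
  intro H W _ _ _ _ _ _ _ L r hL hr hrp hrW hfaith hirr hI
  right
  have h5 := Nat.prime_five
  by_cases hbad : ∃ y : H, PEl 5 y ∧ ¬ FH 1 (⁅L, Subgroup.zpowers y⁆ : Subgroup H)
  swap
  · -- all vectors are good
    push Not at hbad
    have hg : ∀ w : W, Gd 5 1 L w := fun w y hy _ => hbad y hy
    obtain ⟨w, hw⟩ := exists_ne (0 : W)
    refine ⟨![0, w], fun i => hg _, ?_⟩
    intro i j g hgij
    fin_cases i <;> fin_cases j
    · rfl
    · exfalso
      have h1 : g • (0 : W) = w := hgij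
      rw [smul_zero] at h1
      exact hw h1.symm
    · exfalso
      have h1 : g • w = (0 : W) := hgij
      apply hw
      rw [← inv_smul_smul g w, h1, smul_zero]
    · rfl
  -- the primitive data
  have hirr' : Irr H W := fun X hX => hirr X fun g _ => hX g
  obtain ⟨F, _, _, _, ⟨D⟩⟩ := existsPrim H W r hr hrW hfaith hirr' hI
  obtain ⟨Q, m, hD⟩ := Cfsg.Agent.H308.ClsNum.exists_num H W F D
  have hpQ := not_mem_Q D h5 hL hfaith hirr hD
  have hfin : Module.Finite F W := Module.Finite.of_finite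
  obtain ⟨f, hf⟩ : ∃ f, Nat.card F = f := ⟨_, rfl⟩
  obtain ⟨d, hd⟩ : ∃ d, Module.finrank F W = d := ⟨_, rfl⟩
  have hV : Nat.card W = f ^ d := by
    rw [← hf, ← hd]
    exact Module.natCard_eq_pow_finrank (K := F) (V := W)
  have hf2 : 2 ≤ f := by
    rw [← hf]
    exact Finite.one_lt_card
  obtain ⟨e, he⟩ : ∃ e, e = ∏ q ∈ Q, q ^ m q := ⟨_, rfl⟩
  have hed : e ≤ d := by
    rw [he, ← hd]
    exact hD.le_finrank
  have hrel := hD.relIndex
  rw [← he] at hrel
  have hC6 := Cfsg.Agent.H120.RC.relIndex_cent_le D hD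
  rw [← he] at hC6
  -- the characteristic is not `5`
  have h5f : ¬ 5 ∣ f := by
    intro h
    have : Fact (Nat.Prime 5) := ⟨h5⟩
    rw [← hf] at h
    obtain ⟨x, hx⟩ := exists_prime_addOrderOf_dvd_card' 5 h
    have hrF : r • x = 0 := by
      obtain ⟨u, hu⟩ := exists_ne (0 : W)
      have h1 : (r • (1 : F)) • u = 0 := by
        rw [smul_assoc, one_smul]
        exact hrW u
      have h2 : r • (1 : F) = 0 := (smul_eq_zero.1 h1).resolve_right hu
      rw [← mul_one x, ← mul_smul_comm, h2, mul_zero]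
    have h1 : addOrderOf x ∣ r := addOrderOf_dvd_of_nsmul_eq_zero hrF
    rw [hx] at h1
    exact hrp ((Nat.prime_dvd_prime_iff_eq h5 hr).1 h1).symm
  -- primes dividing `e`
  have hprime : ∀ s : ℕ, s.Prime → s ∣ e → s ∈ Q := by
    intro s hs hse
    rw [he, Prime.dvd_finsetProd_iff hs.prime] at hse
    obtain ⟨q, hq, h1⟩ := hse
    rwa [(Nat.prime_dvd_prime_iff_eq hs (hD.prime q hq)).1 (hs.dvd_of_dvd_pow h1)]
  have hdvdf : ∀ s : ℕ, s.Prime → s ∣ e → s ∣ f - 1 := by
    intro s hs hse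
    rw [← hf]
    exact hD.dvd s (hprime s hs hse)
  have h5e : ¬ 5 ∣ e := fun h => hpQ (hprime 5 h5 h)
  have he0 : e ≠ 0 := by
    rw [he]
    exact (Finset.prod_pos fun q hq => pow_pos (hD.prime q hq).pos _).ne'
  obtain ⟨y, hy, hyb⟩ := hbad
  obtain ⟨q, hqQ, hqp, hq, hqtwo, hqodd⟩ := bad_dim D h5 hL hirr hfaith hD hy hyb
  have hqpr := hD.prime q hqQ
  have hqe : q ^ m q ∣ e := by
    rw [he]
    exact Finset.dvd_prod_of_mem _ hqQ
  -- it is enough to count
  suffices hcount : Nat.card {w : W | ¬ Gd 5 1 L w} + Nat.card H < Nat.card W by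
    apply orbs_two_of_card
    have hcomp : Nat.card W ≤ Nat.card {w : W // Gd 5 1 L w} + Nat.card {w : W | ¬ Gd 5 1 L w} := by
      rw [← Nat.card_sum]
      refine Nat.card_le_card_of_injective (fun w =>
        if h : Gd 5 1 L w then Sum.inl ⟨w, h⟩ else Sum.inr ⟨w, h⟩) ?_
      intro a b hab
      dsimp only at hab
      split_ifs at hab with h3 h4 h4
      · exact congrArg Subtype.val (Sum.inl.inj hab)
      · exact congrArg Subtype.val (Sum.inr.inj hab)
    omega
  have hgen := fun (h : (4 ≤ f ∧ 49 ≤ e) ∨ (3 ≤ f ∧ 64 ≤ e) ∨ (7 ≤ f ∧ e = 36) ∨ (7 ≤ f ∧ e = 32) ∨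
      (10 ≤ f ∧ e = 27)) => general D hL hfaith hirr hD hf hV he hed (key h).1 (key h).2.1 (key h).2.2 hC6
  -- elements of order `5` fixing bad vectors
  have hz : ∀ w ∈ {w : W | ¬ Gd 5 1 L w}, w ≠ 0 → ∃ z : H, z ^ 5 = 1 ∧ z ≠ 1 ∧ z • w = w := by
    intro w hw _
    have hw : ¬ Gd 5 1 L w := hw
    unfold Gd at hw
    push Not at hw
    obtain ⟨y, hy, hyw, hyb⟩ := hw
    rw [FH.one_iff] at hyb
    have hy1 : y ≠ 1 := by
      rintro rfl
      apply hyb
      rw [Subgroup.zpowers_one_eq_bot, Subgroup.commutator_bot_right]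
      infer_instance
    obtain ⟨n, h1, h2⟩ := exists_order h5 hy hy1
    refine ⟨y ^ n, h1, h2, ?_⟩
    clear h1 h2
    induction n with
    | zero => rw [pow_zero, one_smul]
    | succ n ih => rw [pow_succ, mul_smul, hyw, ih]
  by_cases hq2 : q = 2
  · subst hq2
    have h32 : 32 ∣ e := by
      calc 32 = 2 ^ 5 := by norm_num
        _ ∣ 2 ^ m 2 := pow_dvd_pow 2 (hqtwo rfl)
        _ ∣ e := hqe
    obtain ⟨k, hk⟩ := h32
    have h2f := hdvdf 2 Nat.prime_two (by omega)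
    have hk0 : k ≠ 0 := by
      rintro rfl
      exact he0 (by rw [hk, mul_zero])
    by_cases hk1 : k = 1
    · have he32 : e = 32 := by rw [hk, hk1]
      have hf37 : f = 3 ∨ 7 ≤ f := by omega
      rcases hf37 with rfl | hf7
      · subst he32
        exact case32 D hL hfaith hirr hD hf hV he hed hC6
      · exact hgen (by omega)
    · exact hgen (by omega)
  -- `q` odd
  have hmq : 2 ≤ m q := by
    have := (hqodd hq2).1
    omega
  have hq2e : q ^ 2 ∣ e := (pow_dvd_pow q hmq).trans hqe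
  have hqf : q ∣ f - 1 := hdvdf q hqpr ((dvd_pow_self q two_ne_zero).trans hq2e)
  have hqf' : q ≤ f - 1 := Nat.le_of_dvd (by omega) hqf
  by_cases hq3 : q = 3
  swap
  · -- `q ≥ 7`
    have hq7 : 7 ≤ q := by
      by_contra hcon
      have h1 := hqpr.two_le
      interval_cases q
      · exact hq2 rfl
      · exact hq3 rfl
      · exact absurd hqpr (by norm_num)
      · exact hqp rfl
      · exact absurd hqpr (by norm_num)
    have h49 : 49 ≤ e := by
      calc 49 = 7 ^ 2 := by norm_num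
        _ ≤ q ^ 2 := Nat.pow_le_pow_left hq7 2
        _ ≤ e := Nat.le_of_dvd (Nat.pos_of_ne_zero he0) hq2e
    exact hgen (by omega)
  subst hq3
  obtain ⟨k, hk⟩ := hq2e
  have hk0 : k ≠ 0 := by
    rintro rfl
    exact he0 (by rw [hk, mul_zero])
  have hc8 : D.A.relIndex (centralizer (D.A : Set H)) ≤ e ^ 8 := by
    rw [relIndex_AC, hrel]
    calc e ^ 2 * D.S.relIndex (centralizer (D.A : Set H)) ≤ e ^ 2 * e ^ 6 := Nat.mul_le_mul_left _ hC6
      _ = e ^ 8 := by ring
  by_cases hk6 : 6 ≤ k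
  · exact hgen (by omega)
  interval_cases k
  · exact absurd rfl hk0
  · -- `e = 9`
    have he9 : e = 9 := by rw [hk]; norm_num
    subst he9
    have hc := case9 D hL hfaith hirr hD he hy hyb
    have hfix : ∀ z ∈ centralizer (D.A : Set H), z ^ 5 = 1 → z ∉ D.A →
        Nat.card {w : W // z • w = w} ^ 45 ≤ (f ^ d) ^ 13 := by
      intro z hz hz5 hzA
      obtain ⟨h1, h2, h3⟩ := c_facts D hL hfaith hirr hrel hz hz5 hzA
      exact fix_bound D hf hV h5f hrel hz hz5 hzA (val_nine h1 h2 h3)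
    by_cases hf16 : 16 ≤ f
    · exact special_large D hf hV hc hfix _ hz fun x t b h h1 h2 h3 h4 h5 => nine_large hf16 hed h1 h2 h3 h4 h5
    · have hfs : f = 4 ∨ f = 7 ∨ f = 10 ∨ f = 13 := by omega
      refine special_small D hf hV hc hfix _ hz ?_ (by omega) fun x b h h1 h2 h3 => nine_small hfs hed h1 h2 h3
      rcases hfs with rfl | rfl | rfl | rfl <;> decide
  · -- `e = 18`
    have he18 : e = 18 := by rw [hk]; norm_num
    subst he18
    have h2f := hdvdf 2 Nat.prime_two (by norm_num)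
    have h2Q := hprime 2 Nat.prime_two (by norm_num)
    have hm2 : m 2 = 1 := by
      have h1 : 2 ^ m 2 ∣ 18 := by
        rw [he]
        exact Finset.dvd_prod_of_mem _ h2Q
      have h2 := hD.one_le 2 h2Q
      by_contra h3
      have h4 : 2 ^ 2 ∣ 18 := (pow_dvd_pow 2 (by omega)).trans h1
      norm_num at h4
    have hfix : ∀ z ∈ centralizer (D.A : Set H), z ^ 5 = 1 → z ∉ D.A →
        Nat.card {w : W // z • w = w} ^ 45 ≤ (f ^ d) ^ 13 := by
      intro z hz hz5 hzA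
      obtain ⟨h1, h2, h3⟩ := c_facts D hL hfaith hirr hrel hz hz5 hzA
      have h4 : 4 ∣ D.A.relIndex (TS D z) := by
        have h6 : Nat.card (XQ D 2) = 4 := by
          rw [card_XQ D hD h2Q, hm2]
          norm_num
        have h7 := XL_two_le D z hz5 (by rw [h6]; norm_num)
        have hAX : D.A ≤ XL D 2 := fun a ha => ⟨D.A_le ha, D.A.pow_mem ha 2⟩
        have h8 := Subgroup.relIndex_mul_relIndex _ _ _ hAX h7
        rw [hD.card_part 2 h2Q (XL D 2) (fun s => mem_XL D), hm2] at h8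
        exact ⟨_, h8.symm⟩
      have h9 := fix_bound D hf hV h5f hrel hz hz5 hzA (val_18 h4 h1 h2 h3)
      have h10 : (Nat.card {w : W // z • w = w} ^ 45) ^ 2 ≤ ((f ^ d) ^ 13) ^ 2 := by
        rw [← pow_mul, ← pow_mul]
        exact h9
      exact (Nat.pow_le_pow_iff_left (by norm_num)).1 h10
    by_cases hf16 : 16 ≤ f
    · exact special_large D hf hV hc8 hfix _ hz fun x t b h h1 h2 h3 h4 h5 => eighteen_large hf16 hed h1 h2 h3 h4 h5
    · have hfs : f = 7 ∨ f = 13 := by omega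
      refine special_small D hf hV hc8 hfix _ hz ?_ (by omega) fun x b h h1 h2 h3 => eighteen_small hfs hed h1 h2 h3
      rcases hfs with rfl | rfl <;> decide
  · -- `e = 27`
    have he27 : e = 27 := by rw [hk]; norm_num
    by_cases hf10 : 10 ≤ f
    · exact hgen (by omega)
    subst he27
    have hfs : f = 4 ∨ f = 7 := by omega
    have hfix : ∀ z ∈ centralizer (D.A : Set H), z ^ 5 = 1 → z ∉ D.A →
        Nat.card {w : W // z • w = w} ^ 45 ≤ (f ^ d) ^ 13 := by
      intro z hz hz5 hzA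
      obtain ⟨h1, h2, h3⟩ := c_facts D hL hfaith hirr hrel hz hz5 hzA
      have h9 := fix_bound D hf hV h5f hrel hz hz5 hzA (val_27 h1 h2 h3)
      have h10 : (Nat.card {w : W // z • w = w} ^ 45) ^ 3 ≤ ((f ^ d) ^ 13) ^ 3 := by
        rw [← pow_mul, ← pow_mul]
        exact h9
      exact (Nat.pow_le_pow_iff_left (by norm_num)).1 h10
    refine special_small D hf hV hc8 hfix _ hz ?_ (by omega) fun x b h h1 h2 h3 => twentyseven hfs hed h1 h2 h3
    rcases hfs with rfl | rfl <;> decide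
  · -- `e = 36`
    have h2f := hdvdf 2 Nat.prime_two (by omega)
    exact hgen (by omega)
  · exact absurd (by omega : 5 ∣ e) h5e

end Cfsg.Agent.H527.RC.Pr5

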